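import Cfsg.Agent.H27.Orbit.Defs

/-!
Derived lengths of stabilisers in a primitive linear group.
-/

set_option autoImplicit false
set_option linter.style.haveILetI false
set_option linter.unusedSectionVars false

namespace H27.Orbit

open scoped commutatorElement
open MulAction

section Group

variable {G : Type*} [Group G]

theorem dIn_zero (H : Subgroup G) : dIn H 0 = H := by
  simp only [dIn, derivedSeries_zero, ← MonoidHom.range_eq_map, Subgroup.range_subtype]

theorem dIn_succ (H : Subgroup G) (n : ℕ) : dIn H (n + 1) = ⁅dIn H n, dIn H n⁆ := by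
  rw [dIn, derivedSeries_succ, Subgroup.map_commutator]; rfl

theorem dIn_le (H : Subgroup G) (n : ℕ) : dIn H n ≤ H := Subgroup.map_subtype_le _

theorem dIn_mono {H K : Subgroup G} (h : H ≤ K) (n : ℕ) : dIn H n ≤ dIn K n := by
  induction n with
  | zero => rwa [dIn_zero, dIn_zero]
  | succ n ih => rw [dIn_succ, dIn_succ]; exact Subgroup.commutator_mono ih ih

theorem dIn_trans {H K : Subgroup G} {a : ℕ} (h : dIn H a ≤ K) (b : ℕ) :
    dIn H (a + b) ≤ dIn K b := by
  induction b with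
  | zero => rwa [Nat.add_zero, dIn_zero]
  | succ b ih => rw [← Nat.add_assoc, dIn_succ, dIn_succ]; exact Subgroup.commutator_mono ih ih

theorem dIn_antitone {H : Subgroup G} {a b : ℕ} (hab : a ≤ b) : dIn H b ≤ dIn H a := by
  obtain ⟨c, rfl⟩ := Nat.exists_eq_add_of_le hab
  exact (dIn_trans le_rfl c).trans (dIn_le _ c)

theorem dIn_top_eq (n : ℕ) : dIn (⊤ : Subgroup G) n = derivedSeries G n := by
  induction n with
  | zero => rw [dIn_zero, derivedSeries_zero]
  | succ n ih => rw [dIn_succ, derivedSeries_succ, ih]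

theorem dIn_one_eq_bot {H : Subgroup G} (h : ∀ x ∈ H, ∀ y ∈ H, x * y = y * x) : dIn H 1 = ⊥ := by
  rw [dIn_succ, dIn_zero, eq_bot_iff, Subgroup.commutator_le]
  intro x hx y hy
  rw [Subgroup.mem_bot, commutatorElement_eq_one_iff_mul_comm]
  exact h x hx y hy

theorem smallStab_of_le {V : Type*} [MulAction G V] {v : V} {a d : ℕ}
    (h : dIn (stabilizer G v) a = ⊥) (had : a ≤ d) : SmallStab G V d v := by
  intro g hg x
  have hg' : g ∈ dIn (stabilizer G v) a := dIn_antitone had hg
  rw [h, Subgroup.mem_bot] at hg'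
  rw [hg', one_smul]

end Group

/-- Automorphisms of a finite field commute. -/
theorem ringAut_comm {K : Type*} [Field K] [Finite K] (a b : RingAut K) : a * b = b * a := by
  obtain ⟨ζ, hζ⟩ := IsCyclic.exists_generator (α := Kˣ)
  have key : ∀ f g : RingAut K, f (ζ : K) = g (ζ : K) → f = g := fun f g h => by
    refine RingEquiv.ext fun c => ?_
    by_cases hc : c = 0
    · simp [hc]
    obtain ⟨i, hi⟩ := Subgroup.mem_zpowers_iff.1 (hζ (Units.mk0 c hc))
    have hc' : ((ζ : K) ^ i) = c := by rw [← Units.val_zpow_eq_zpow_val, hi, Units.val_mk0]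
    rw [← hc', map_zpow₀, map_zpow₀, h]
  have hrep : ∀ f : RingAut K, ∃ i : ℤ, f (ζ : K) = (ζ : K) ^ i := fun f => by
    have hne : f (ζ : K) ≠ 0 := fun h => ζ.ne_zero (f.injective (h.trans (map_zero f).symm))
    obtain ⟨i, hi⟩ := Subgroup.mem_zpowers_iff.1 (hζ (Units.mk0 _ hne))
    exact ⟨i, by rw [← Units.val_zpow_eq_zpow_val, hi, Units.val_mk0]⟩
  obtain ⟨i, hi⟩ := hrep a
  obtain ⟨j, hj⟩ := hrep b
  refine key _ _ ?_
  rw [RingAut.mul_apply, RingAut.mul_apply, hi, hj, map_zpow₀, map_zpow₀, hi, hj, ← zpow_mul,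
    ← zpow_mul, mul_comm]

namespace SectData

variable {G V : Type} [Group G] [AddCommGroup V] [DistribMulAction G V] (S : SectData G V)

/-- The field action is trivial. -/
def Linear : Prop := S.σ.ker = ⊤

theorem dIn_stab_le_ker (H : Subgroup G) : dIn H 1 ≤ S.σ.ker := by
  rw [dIn_succ, dIn_zero, Subgroup.commutator_le]
  intro x _ y _
  rw [MonoidHom.mem_ker, map_commutatorElement, commutatorElement_eq_one_iff_mul_comm]
  exact ringAut_comm _ _

theorem dIn_ker_le_B {x : ℕ} (h : DlActs G S.N x) : dIn S.σ.ker x ≤ S.B := by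
  intro g hg
  refine S.ker_le g (dIn_le _ _ hg) fun n => h g ?_ n
  rw [← dIn_top_eq]
  exact dIn_mono le_top x hg

variable [FaithfulSMul G V]

theorem A_comm {a b : G} (ha : a ∈ S.A) (hb : b ∈ S.A) : a * b = b * a := by
  obtain ⟨c, -, hc⟩ := S.scal a ha
  obtain ⟨c', -, hc'⟩ := S.scal b hb
  refine eq_of_smul_eq_smul fun v : V => ?_
  rw [mul_smul, mul_smul, hc', hc, hc, hc', smul_comm]

theorem dIn_B : dIn S.B 2 = ⊥ := by
  have h1 : dIn S.B 1 ≤ S.A := by
    rw [dIn_succ, dIn_zero, Subgroup.commutator_le]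
    intro x hx y hy
    rw [commutatorElement_def]
    exact S.comm x hx y hy
  exact le_bot_iff.1 ((dIn_trans (b := 1) h1).trans (dIn_one_eq_bot fun a ha b hb => S.A_comm ha hb).le)

theorem eq_one_of_fix {a : G} (ha : a ∈ S.A) {v : V} (hv : v ≠ 0) (h : a • v = v) : a = 1 := by
  obtain ⟨c, -, hc⟩ := S.scal a ha
  have hc1 : c = 1 := smul_left_injective S.K hv ((hc v).symm.trans (h.trans (one_smul _ v).symm))
  refine eq_of_smul_eq_smul fun w : V => ?_
  rw [hc, hc1, one_smul, one_smul]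

theorem dIn_stab_B {v : V} (hv : v ≠ 0) : dIn (stabilizer G v ⊓ S.B) 1 = ⊥ := by
  refine dIn_one_eq_bot fun x hx y hy => ?_
  rw [← commutatorElement_eq_one_iff_mul_comm]
  refine S.eq_one_of_fix ?_ hv ?_
  · rw [commutatorElement_def]; exact S.comm x hx.2 y hy.2
  · have h1 : x • v = v := hx.1
    have h2 : y • v = v := hy.1
    rw [commutatorElement_def, mul_smul, mul_smul, mul_smul, inv_smul_eq_iff.2 h2.symm,
      inv_smul_eq_iff.2 h1.symm, h2, h1]

/-- Stabilisers inside the linear part. -/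
theorem smallStab_inner {x : ℕ} (h : DlActs G S.N x) {v : V} (hv : v ≠ 0)
    (hk : stabilizer G v ≤ S.σ.ker) {d : ℕ} (hd : x + 1 ≤ d) : SmallStab G V d v := by
  refine smallStab_of_le (le_bot_iff.1 ?_) hd
  refine (dIn_trans (K := stabilizer G v ⊓ S.B) (le_inf (dIn_le _ _) ?_) 1).trans (S.dIn_stab_B hv).le
  exact (dIn_mono hk x).trans (S.dIn_ker_le_B h)

/-- All stabilisers of non-zero vectors. -/
theorem smallStab_of_ne {x : ℕ} (h : DlActs G S.N x) {v : V} (hv : v ≠ 0) {d : ℕ}
    (hd : x + 2 ≤ d) : SmallStab G V d v := by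
  refine smallStab_of_le (a := 1 + x + 1) (le_bot_iff.1 ?_) (by omega)
  refine (dIn_trans (K := stabilizer G v ⊓ S.B) (le_inf (dIn_le _ _) ?_) 1).trans (S.dIn_stab_B hv).le
  exact (dIn_trans (S.dIn_stab_le_ker _) x).trans (S.dIn_ker_le_B h)

/-- The whole group fixes zero. -/
theorem smallStab_zero {x : ℕ} (h : DlActs G S.N x) {d : ℕ} (hd : x + 3 ≤ d) :
    SmallStab G V d (0 : V) := by
  refine smallStab_of_le (a := 1 + x + 2) (le_bot_iff.1 ?_) (by omega)
  exact (dIn_trans ((dIn_trans (S.dIn_stab_le_ker _) x).trans (S.dIn_ker_le_B h)) 2).trans S.dIn_B.le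

/-- The whole group, when the field action is trivial. -/
theorem smallStab_zero_linear (hl : S.Linear) {x : ℕ} (h : DlActs G S.N x) {d : ℕ} (hd : x + 2 ≤ d) :
    SmallStab G V d (0 : V) := by
  refine smallStab_of_le (le_bot_iff.1 ?_) hd
  refine (dIn_trans (K := S.B) ?_ 2).trans S.dIn_B.le
  exact (dIn_mono (le_top.trans hl.ge) x).trans (S.dIn_ker_le_B h)

end SectData

end H27.Orbit
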