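import Cfsg.Agent.H27.Orbit.SLThree
import Cfsg.Agent.H35.OddBase.Primitive
import Cfsg.Agent.H21.Base3.FrameExists

/-!
The section of a primitive solvable linear group.
-/

set_option autoImplicit false
set_option linter.style.haveILetI false
set_option linter.unusedSectionVars false
set_option maxHeartbeats 1000000

namespace H27.Orbit

open Module H35.OddBase
open scoped commutatorElement

variable {G V : Type} [Group G] [AddCommGroup V] [DistribMulAction G V]

/-- The fixed points of an element. -/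
def fixAdd (g : G) : AddSubgroup V :=
  (DistribSMul.toAddMonoidHom V g).eqLocus (AddMonoidHom.id V)

theorem mem_fixAdd (g : G) (v : V) : v ∈ fixAdd g ↔ g • v = v := Iff.rfl

theorem card_sq_le_card [Finite V] (W : AddSubgroup V) (f : V →+ V)
    (h : ∀ u ∈ W, ∀ w ∈ W, u = f w → w = 0) : Nat.card ↥W ^ 2 ≤ Nat.card V := by
  rw [pow_two, ← Nat.card_prod]
  refine Nat.card_le_card_of_injective (fun p : ↥W × ↥W => (p.1 : V) + f p.2) ?_
  rintro ⟨a, b⟩ ⟨a', b'⟩ e
  dsimp only at e
  have e' : (a : V) - a' = f (b' - b) := by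
    rw [map_sub, sub_eq_sub_iff_add_eq_add, e, add_comm]
  have hb : (b' : V) - b = 0 := h _ (W.sub_mem a.2 a'.2) _ (W.sub_mem b'.2 b.2) e'
  rw [hb, map_zero, sub_eq_zero] at e'
  exact Prod.ext (Subtype.ext e') (Subtype.ext (sub_eq_zero.1 hb).symm)

theorem card_pow_four_le [Finite V] (W : AddSubgroup V) (f : V →+ V) (hf : Function.Injective f)
    (U : AddSubgroup V) (hU : Nat.card ↥U ^ 2 ≤ Nat.card V) (h : ∀ w ∈ W, f w ∈ W → f w ∈ U) :
    Nat.card ↥W ^ 4 ≤ Nat.card V ^ 3 := by
  let φ : ↥W × ↥W →+ V := W.subtype.coprod (f.comp W.subtype)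
  have hker : Nat.card ↥φ.ker ≤ Nat.card ↥U := by
    refine Nat.card_le_card_of_injective
      (fun p => (⟨f (p.1.2 : V), h _ p.1.2.2 ?_⟩ : ↥U)) ?_
    · have hp : (p.1.1 : V) + f (p.1.2 : V) = 0 := p.2
      rw [← neg_eq_of_add_eq_zero_right hp]
      exact W.neg_mem p.1.1.2
    · rintro ⟨⟨a, b⟩, hp⟩ ⟨⟨a', b'⟩, hp'⟩ e
      have hb : b = b' := Subtype.ext (hf (congrArg Subtype.val e))
      have e1 : (a : V) + f b = 0 := hp
      have e2 : (a' : V) + f b' = 0 := hp'
      subst hb
      have ha : a = a' := Subtype.ext (add_right_cancel (e1.trans e2.symm))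
      subst ha
      rfl
  have h1 : Nat.card ↥W * Nat.card ↥W ≤ Nat.card V * Nat.card ↥U := by
    rw [← Nat.card_prod, AddSubgroup.card_eq_card_quotient_mul_card_addSubgroup φ.ker,
      Nat.card_congr (QuotientAddGroup.quotientKerEquivRange φ).toEquiv]
    exact Nat.mul_le_mul (Nat.card_le_card_of_injective _ Subtype.val_injective) hker
  calc Nat.card ↥W ^ 4 = (Nat.card ↥W * Nat.card ↥W) ^ 2 := by ring
    _ ≤ (Nat.card V * Nat.card ↥U) ^ 2 := Nat.pow_le_pow_left h1 2
    _ = Nat.card V ^ 2 * Nat.card ↥U ^ 2 := by ring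
    _ ≤ Nat.card V ^ 2 * Nat.card V := Nat.mul_le_mul_left _ hU
    _ = Nat.card V ^ 3 := by ring

theorem sectData_of_frame [Finite G] [Finite V] [FaithfulSMul G V] {K : Type} [Field K] [Finite K]
    [Module K V] [Nontrivial V] [Group.IsSolvable G] (S : Frame G V K) : Nonempty (SectData G V) := by
  classical
  haveI := S.normal
  haveI : Fintype ↥S.A := Fintype.ofFinite _
  obtain ⟨B, hBn, hAB, hBC, hcomm, hmax⟩ := S.exists_B
  haveI := hBn
  haveI : IsCyclic ↥S.A := isCyclic_of_subgroup_isDomain S.ι S.ι_injective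
  letI : CommGroup ↥S.A := IsCyclic.commGroup
  set A' : Subgroup ↥B := S.A.subgroupOf B with hA'
  let N := ↥B ⧸ A'
  letI : CommGroup N :=
    { (inferInstance : Group N) with
      mul_comm := fun a b => by
        obtain ⟨a, rfl⟩ := QuotientGroup.mk_surjective a
        obtain ⟨b, rfl⟩ := QuotientGroup.mk_surjective b
        refine QuotientGroup.eq.2 ?_
        show ((a * b)⁻¹ * (b * a) : G) ∈ S.A
        have : ((a * b)⁻¹ * (b * a) : G) = ⁅(b : G)⁻¹, (a : G)⁻¹⁆ := by
          simp only [commutatorElement_def, Subgroup.coe_mul, Subgroup.coe_inv]; group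
        rw [this]
        exact hcomm _ (B.inv_mem b.2) _ (B.inv_mem a.2) }
  haveI : Finite N := Quotient.finite _
  -- the commutator pairing
  have hcentral : ∀ (a : G), a ∈ S.A → ∀ g ∈ B, g * a = a * g := fun a ha g hg =>
    S.commute_of_mem_ker (hBC hg) ha
  let χ : ↥B → ↥B →* ↥S.A := fun b =>
    { toFun := fun c => ⟨⁅(b : G), (c : G)⁆, hcomm _ b.2 _ c.2⟩
      map_one' := Subtype.ext (commutatorElement_one_right _)
      map_mul' := fun c d => Subtype.ext (by
        show ⁅(b : G), (c : G) * d⁆ = ⁅(b : G), (c : G)⁆ * ⁅(b : G), (d : G)⁆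
        have h1 : ⁅(b : G), (c : G) * d⁆ = ⁅(b : G), (c : G)⁆ * ((c : G) * ⁅(b : G), (d : G)⁆ * (c : G)⁻¹) := by
          simp only [commutatorElement_def]; group
        rw [h1, hcentral _ (hcomm _ b.2 _ d.2) _ c.2, mul_assoc _ (c : G), mul_inv_cancel, mul_one]) }
  have hχmul : ∀ a b c : ↥B, χ (a * b) c = χ a c * χ b c := fun a b c => Subtype.ext (by
    show ⁅(a : G) * b, (c : G)⁆ = ⁅(a : G), (c : G)⁆ * ⁅(b : G), (c : G)⁆
    have h1 : ⁅(a : G) * b, (c : G)⁆ = (a : G) * ⁅(b : G), (c : G)⁆ * (a : G)⁻¹ * ⁅(a : G), (c : G)⁆ := by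
      simp only [commutatorElement_def]; group
    rw [h1, hcentral _ (hcomm _ b.2 _ c.2) _ a.2, mul_assoc _ (a : G), mul_inv_cancel, mul_one]
    exact hcentral _ (hcomm _ a.2 _ c.2) _ (hAB.trans le_rfl (hcomm _ b.2 _ c.2)))
  have hker : ∀ b : ↥B, A' ≤ (χ b).ker := fun b c hc => Subtype.ext (by
    show ⁅(b : G), (c : G)⁆ = 1
    exact commutatorElement_eq_one_iff_mul_comm.2 (hcentral _ hc _ b.2))
  let χ' : ↥B →* (N →* ↥S.A) :=
    { toFun := fun b => QuotientGroup.lift A' (χ b) (hker b)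
      map_one' := MonoidHom.ext fun c => by
        obtain ⟨c, rfl⟩ := QuotientGroup.mk_surjective c
        exact Subtype.ext (commutatorElement_one_left _)
      map_mul' := fun a b => MonoidHom.ext fun c => by
        obtain ⟨c, rfl⟩ := QuotientGroup.mk_surjective c
        exact hχmul a b c }
  have hker' : A' ≤ χ'.ker := fun b hb => MonoidHom.ext fun c => by
    obtain ⟨c, rfl⟩ := QuotientGroup.mk_surjective c
    exact Subtype.ext (commutatorElement_eq_one_iff_mul_comm.2 (hcentral _ hb _ c.2).symm)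
  let P : AltPairing N ↥S.A :=
    { β := QuotientGroup.lift A' χ' hker'
      alt := fun x => by
        obtain ⟨b, rfl⟩ := QuotientGroup.mk_surjective x
        exact Subtype.ext (commutatorElement_self _)
      nondeg := fun x hx => by
        obtain ⟨b, rfl⟩ := QuotientGroup.mk_surjective x
        refine (QuotientGroup.eq_one_iff b).2 (S.center_le hBn hAB hBC b.2 fun y hy => ?_)
        exact commutatorElement_eq_one_iff_commute.1
          (congrArg Subtype.val (hx (QuotientGroup.mk ⟨y, hy⟩))) }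
  have hP : ∀ b c : ↥B, ((P.β (QuotientGroup.mk b) (QuotientGroup.mk c) : ↥S.A) : G) = ⁅(b : G), (c : G)⁆ :=
    fun b c => rfl
  -- elements of the kernel acting trivially on `B / A`
  have hD : ∀ g ∈ S.σ.ker, (∀ b ∈ B, ⁅g, b⁆ ∈ S.A) → g ∈ B := by
    intro g hg hgb
    let ψ : ↥B →* ↥S.A :=
      { toFun := fun c => ⟨⁅g, (c : G)⁆, hgb _ c.2⟩
        map_one' := Subtype.ext (commutatorElement_one_right _)
        map_mul' := fun c d => Subtype.ext (by
          show ⁅g, (c : G) * d⁆ = ⁅g, (c : G)⁆ * ⁅g, (d : G)⁆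
          have h1 : ⁅g, (c : G) * d⁆ = ⁅g, (c : G)⁆ * ((c : G) * ⁅g, (d : G)⁆ * (c : G)⁻¹) := by
            simp only [commutatorElement_def]; group
          rw [h1, hcentral _ (hgb _ d.2) _ c.2, mul_assoc _ (c : G), mul_inv_cancel, mul_one]) }
    have hψ : A' ≤ ψ.ker := fun c hc => Subtype.ext
      (commutatorElement_eq_one_iff_mul_comm.2 (S.commute_of_mem_ker hg hc))
    obtain ⟨x, hx⟩ := P.surjective S.ι_injective (QuotientGroup.lift A' ψ hψ)
    obtain ⟨b, rfl⟩ := QuotientGroup.mk_surjective x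
    have hbg : ∀ y ∈ B, Commute ((b : G)⁻¹ * g) y := fun y hy => by
      have h1 : ⁅(b : G), y⁆ = ⁅g, y⁆ := by
        have h0 := congrArg Subtype.val (DFunLike.congr_fun hx (QuotientGroup.mk (⟨y, hy⟩ : ↥B)))
        exact h0
      rw [← commutatorElement_eq_one_iff_commute]
      have : ⁅(b : G)⁻¹ * g, y⁆ = (b : G)⁻¹ * ⁅g, y⁆ * ⁅(b : G), y⁆⁻¹ * (b : G) := by
        simp only [commutatorElement_def]; group
      rw [this, h1, mul_assoc _ ⁅g, y⁆, mul_inv_cancel, mul_one, inv_mul_cancel]
    have := hAB (S.centralizer_le hBn hAB hBC hcomm hmax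
      (S.σ.ker.mul_mem (S.σ.ker.inv_mem (hBC b.2)) hg) hbg)
    simpa using B.mul_mem b.2 this
  -- fixed spaces
  have hfixB : ∀ g ∈ B, g ∉ S.A → Nat.card ↥(fixAdd (V := V) g) ^ 2 ≤ Nat.card V := by
    intro x hxB hxA
    obtain ⟨y, hy, hne⟩ : ∃ y ∈ B, ⁅x, y⁆ ≠ 1 := by
      by_contra h
      push Not at h
      exact hxA (S.center_le hBn hAB hBC hxB fun y hy => commutatorElement_eq_one_iff_commute.1 (h y hy))
    refine card_sq_le_card _ (DistribSMul.toAddMonoidHom V y) fun u hu w hw e => ?_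
    change x • u = u at hu
    change x • w = w at hw
    have hu2 : u = y • w := e
    have h1 : ⁅x, y⁆ • (y • w) = y • w := by
      have hxy : ⁅x, y⁆ * y = x * y * x⁻¹ := by rw [commutatorElement_def]; group
      rw [← mul_smul, hxy, mul_smul, mul_smul, inv_smul_eq_iff.2 hw.symm, ← hu2, hu, hu2]
    by_contra hw0
    refine hne ?_
    have h2 := S.scal ⟨_, hcomm x hxB y hy⟩ (y • w)
    rw [h1] at h2
    have hι : S.ι ⟨_, hcomm x hxB y hy⟩ = 1 :=
      smul_left_injective K (fun h => hw0 ((smul_eq_zero_iff_eq y).1 h)) (h2.symm.trans (one_smul K _).symm)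
    exact congrArg Subtype.val (S.ι_injective (hι.trans (map_one S.ι).symm))
  -- the dimension and the order of the section
  set d := finrank K V with hd
  set Q := Nat.card K with hQdef
  let T : N → Module.End K V := fun x => S.toEnd ⟨(x.out : ↥B), hBC x.out.2⟩
  have hsd : Nat.card N ≤ d * d := by
    refine P.card_le_finrank_sq S.ι_injective T (fun x y => LinearMap.ext fun v => ?_) fun x => ?_
    · show ((x.out : ↥B) : G) • ((y.out : ↥B) : G) • v =
        S.ι (P.β x y) • ((y.out : ↥B) : G) • ((x.out : ↥B) : G) • v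
      have hβ : ((P.β x y : ↥S.A) : G) = ⁅((x.out : ↥B) : G), ((y.out : ↥B) : G)⁆ := by
        conv_lhs => rw [← QuotientGroup.out_eq' x, ← QuotientGroup.out_eq' y]
        exact hP _ _
      rw [← S.scal, hβ, ← mul_smul, ← mul_smul, ← mul_smul]
      congr 1
      rw [commutatorElement_def]; group
    · exact IsUnit.map S.toEnd (Group.isUnit _)
  obtain ⟨e, he⟩ := AltPairing.exists_sq (A := ↥S.A) _ N rfl P
  have hed : e ≤ d := by
    rw [he, ← pow_two] at hsd
    exact (Nat.pow_le_pow_iff_left two_ne_zero).1 hsd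
  have hdvdA : Nat.card ↥S.A ∣ Q - 1 := by
    have hinj : Function.Injective S.ι.toHomUnits := fun a b h =>
      S.ι_injective (congrArg Units.val h)
    have hu : Nat.card Kˣ = Q - 1 := Nat.card_units K
    rw [← hu, Nat.card_congr (MonoidHom.ofInjective hinj).toEquiv]
    exact Subgroup.card_subgroup_dvd_card _
  have hroot : ∀ r : ℕ, r.Prime → r ∣ e → r ∣ Q - 1 := by
    intro r hr hre
    haveI := Fact.mk hr
    obtain ⟨x, hx⟩ := exists_prime_orderOf_dvd_card' (G := N) r (he ▸ dvd_pow hre two_ne_zero)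
    obtain ⟨y, hy⟩ : ∃ y, P.β x y ≠ 1 := by
      by_contra h
      push Not at h
      rw [P.nondeg x h, orderOf_one] at hx
      exact hr.one_lt.ne hx
    have ho : orderOf (P.β x y) = r := orderOf_eq_prime
      ((P.β_pow_eq_one_iff x r).2 (hx ▸ pow_orderOf_eq_one x) y) hy
    exact (ho ▸ orderOf_dvd_natCard (P.β x y)).trans hdvdA
  -- the action on the section
  let conjB : G →* MulAut ↥B := MulAut.conjNormal
  have hA'inv : ∀ g : G, A' ≤ A'.comap (conjB g).toMonoidHom := fun g c hc => by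
    show ((conjB g c : ↥B) : G) ∈ S.A
    rw [MulAut.conjNormal_apply]
    exact S.normal.conj_mem _ hc g
  let actN : G → (N →* N) := fun g => QuotientGroup.map A' A' (conjB g).toMonoidHom (hA'inv g)
  letI iAct : MulDistribMulAction G N :=
    { smul := fun g x => actN g x
      one_smul := fun x => by
        obtain ⟨b, rfl⟩ := QuotientGroup.mk_surjective x
        show (QuotientGroup.mk (conjB 1 b) : N) = _
        rw [map_one]; rfl
      mul_smul := fun g h x => by
        obtain ⟨b, rfl⟩ := QuotientGroup.mk_surjective x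
        show (QuotientGroup.mk (conjB (g * h) b) : N) = _
        rw [map_mul]; rfl
      smul_mul := fun g x y => map_mul (actN g) x y
      smul_one := fun g => map_one (actN g) }
  have hsm : ∀ (g : G) (b : ↥B), g • (QuotientGroup.mk b : N) = QuotientGroup.mk (conjB g b) :=
    fun g b => rfl
  have hequiv : ∀ (g : G) (x y : N), ((P.β (g • x) (g • y) : ↥S.A) : G) = g * (P.β x y : G) * g⁻¹ := by
    intro g x y
    obtain ⟨b, rfl⟩ := QuotientGroup.mk_surjective x
    obtain ⟨c, rfl⟩ := QuotientGroup.mk_surjective y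
    rw [hsm, hsm, hP, hP, MulAut.conjNormal_apply, MulAut.conjNormal_apply]
    simp only [commutatorElement_def]; group
  letI := additiveAct G N
  have hcr : IsCR G (Additive N) := by
    intro U hU
    let U' : Subgroup N := AddSubgroup.toSubgroup' U
    have hU' : ∀ (g : G), ∀ x ∈ U', g • x ∈ U' := fun g x hx =>
      hU g (Additive.ofMul x) hx
    have hperp : ∀ (g : G), ∀ x ∈ P.perp U', g • x ∈ P.perp U' := by
      intro g x hx w hw
      have h1 := hx (g⁻¹ • w) (hU' g⁻¹ w hw)
      apply Subtype.ext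
      rw [← smul_inv_smul g w, hequiv, h1]
      simp
    have hdisj : ∀ x ∈ U', x ∈ P.perp U' → x = 1 := by
      -- the preimage of the intersection is abelian and normal
      let Z : Subgroup G :=
        { carrier := {g | ∃ h : g ∈ B, (QuotientGroup.mk ⟨g, h⟩ : N) ∈ U' ⊓ P.perp U'}
          one_mem' := ⟨B.one_mem, (U' ⊓ P.perp U').one_mem⟩
          mul_mem' := fun ⟨ha, ha'⟩ ⟨hb, hb'⟩ => ⟨B.mul_mem ha hb, (U' ⊓ P.perp U').mul_mem ha' hb'⟩
          inv_mem' := fun ⟨ha, ha'⟩ => ⟨B.inv_mem ha, (U' ⊓ P.perp U').inv_mem ha'⟩ }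
      have hZn : Z.Normal := by
        refine ⟨fun a hamem g => ?_⟩
        obtain ⟨ha, ha'⟩ := hamem
        refine ⟨hBn.conj_mem a ha g, ?_⟩
        have heq : (QuotientGroup.mk ⟨g * a * g⁻¹, hBn.conj_mem a ha g⟩ : N) =
            g • (QuotientGroup.mk ⟨a, ha⟩ : N) := by
          rw [hsm]
          exact congrArg _ (Subtype.ext (MulAut.conjNormal_apply g (⟨a, ha⟩ : ↥B)).symm)
        rw [heq]; exact ⟨hU' g _ ha'.1, hperp g _ ha'.2⟩
      have hAZ : S.A ≤ Z := fun a ha => ⟨hAB ha, by
        rw [(QuotientGroup.eq_one_iff (⟨a, hAB ha⟩ : ↥B)).2 ha]; exact Subgroup.one_mem _⟩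
      have hZeq := S.maximal Z hZn hAZ ⟨⟨fun a b => Subtype.ext (commutatorElement_eq_one_iff_mul_comm.1 (by
        obtain ⟨ha, ha'⟩ := a.2
        obtain ⟨hb, hb'⟩ := b.2
        rw [← hP ⟨a, ha⟩ ⟨b, hb⟩]
        exact congrArg Subtype.val (ha'.2 _ hb'.1)))⟩⟩
      intro x hx hx'
      obtain ⟨b, rfl⟩ := QuotientGroup.mk_surjective x
      exact (QuotientGroup.eq_one_iff b).2 (hZeq.le (⟨b.2, hx, hx'⟩ : (b : G) ∈ Z))
    refine ⟨Subgroup.toAddSubgroup (P.perp U'), ?_, ?_, ?_⟩
    · intro g v hv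
      exact hperp g v.toMul hv
    · exact (AddSubgroup.eq_bot_iff_forall _).2 fun x hx =>
        congrArg Additive.ofMul (hdisj x.toMul hx.1 hx.2)
    · have hinj : Function.Injective fun t : ↥U' × ↥(P.perp U') => (t.1 : N) * t.2 := by
        rintro ⟨a, b⟩ ⟨a', b'⟩ h
        simp only at h
        have h1 : (a'.1)⁻¹ * a.1 = b'.1 * b.1⁻¹ := by
          rw [inv_mul_eq_iff_eq_mul, ← mul_assoc, eq_mul_inv_iff_mul_eq]; exact h
        have h2 := hdisj _ (U'.mul_mem (U'.inv_mem a'.2) a.2)
          (h1 ▸ (P.perp U').mul_mem b'.2 ((P.perp U').inv_mem b.2))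
        have ha : a = a' := Subtype.ext (inv_mul_eq_one.1 h2).symm
        subst ha
        exact Prod.ext rfl (Subtype.ext (mul_left_cancel h))
      have hcard : Nat.card N ≤ Nat.card (↥U' × ↥(P.perp U')) := by
        rw [Nat.card_prod, ← Subgroup.index_mul_card (P.perp U')]
        exact Nat.mul_le_mul_right _ (P.index_perp_le S.ι_injective U')
      have hsurj := ((Nat.bijective_iff_injective_and_card _).2
        ⟨hinj, le_antisymm (Nat.card_le_card_of_injective _ hinj) hcard⟩).2
      refine (AddSubgroup.eq_top_iff' _).2 fun x => ?_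
      obtain ⟨⟨a, b⟩, hab⟩ := hsurj x.toMul
      rw [show x = Additive.ofMul (a : N) + Additive.ofMul (b : N) from congrArg Additive.ofMul hab.symm]
      exact AddSubgroup.add_mem_sup a.2 b.2
  have hker : ∀ g ∈ S.σ.ker, (∀ x : N, g • x = x) → g ∈ B := by
    intro g hgC hg
    refine hD g hgC fun b hb => ?_
    have hgb := hg (QuotientGroup.mk ⟨b, hb⟩)
    rw [hsm, QuotientGroup.eq, Subgroup.mem_subgroupOf] at hgb
    simp only [Subgroup.coe_mul, Subgroup.coe_inv, MulAut.conjNormal_apply, conjB] at hgb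
    rw [show ⁅g, b⁆ = b * ((g * b * g⁻¹)⁻¹ * b)⁻¹ * b⁻¹ by rw [commutatorElement_def]; group]
    exact S.normal.conj_mem _ (S.A.inv_mem hgb) b
  have hcardN : Nat.card (Additive N) = e ^ 2 := (Nat.card_congr Additive.toMul).trans he
  refine ⟨{
    K := K, σ := S.σ, semi := S.semi, A := S.A, B := B, A_le := hAB, B_le := hBC
    scal := fun a ha => ⟨S.ι ⟨a, ha⟩, fun h => ?_, fun v => S.scal ⟨a, ha⟩ v⟩
    comm := fun x hx y hy => by rw [← commutatorElement_def]; exact hcomm x hx y hy
    dvd_A := hdvdA, e := e, relIndex := he, e_le := hed, root := hroot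
    N := Additive N, cr := hcr, card_N := hcardN
    ker_le := fun g hg h => hker g hg fun x => congrArg Additive.toMul (h (Additive.ofMul x))
    center_le := fun x hx h => S.center_le hBn hAB hBC hx h
    centralizer_le := fun g hg h => hD g hg fun b hb => by rw [commutatorElement_def]; exact h b hb
    three := fun h3 g hg => ?_
    fix_B := hfixB
    fix_ker := fun g hg hgA => ?_
    fix_out := fun g hg => ?_ }⟩
  · obtain ⟨v, hv⟩ := exists_ne (0 : V)
    have := S.scal ⟨a, ha⟩ v
    rw [h, zero_smul, smul_eq_zero_iff_eq] at this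
    exact hv this
  · -- the case of a section of order nine
    obtain ⟨g, hg, rfl⟩ := hg
    letI : MulDistribMulAction ↥S.σ.ker N := MulDistribMulAction.compHom N S.σ.ker.subtype
    have hexp : ∀ x : N, x ^ 3 = 1 := fun x => by
      haveI : Fact (Nat.Prime 3) := ⟨Nat.prime_three⟩
      exact congrArg Additive.toMul
        (hcr.exponent (p := 3) (k := 2) (by rw [hcardN, h3]) (Additive.ofMul x))
    refine hker _ g.2 fun x => dlActs_nine P (by rw [he, h3]; norm_num) hexp
      (fun k x y => Subtype.ext ?_) g hg x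
    show ((P.β ((k : G) • x) ((k : G) • y) : ↥S.A) : G) = _
    rw [hequiv, S.commute_of_mem_ker k.2 (P.β x y).2, mul_inv_cancel_right]
  · -- the kernel of the field action
    by_cases hgB : g ∈ B
    · calc Nat.card ↥(fixAdd (V := V) g) ^ 4 = (Nat.card ↥(fixAdd (V := V) g) ^ 2) ^ 2 := by ring
        _ ≤ Nat.card V ^ 2 := Nat.pow_le_pow_left (hfixB g hgB hgA) 2
        _ ≤ Nat.card V ^ 3 := Nat.pow_le_pow_right Nat.card_pos (by norm_num)
    obtain ⟨b, hb, hne⟩ : ∃ b ∈ B, ⁅g, b⁆ ∉ S.A := by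
      by_contra h
      push Not at h
      exact hgB (hD g hg h)
    have hh : ⁅g, b⁆ ∈ B := by
      rw [commutatorElement_def]
      exact B.mul_mem (hBn.conj_mem b hb g) (B.inv_mem hb)
    refine card_pow_four_le (fixAdd (V := V) g) (DistribSMul.toAddMonoidHom V b) (MulAction.injective b)
      (fixAdd (V := V) ⁅g, b⁆) (hfixB _ hh hne) fun w hw hbw => ?_
    change g • w = w at hw
    change g • b • w = b • w at hbw
    show ⁅g, b⁆ • b • w = b • w
    rw [commutatorElement_def, mul_smul, mul_smul, mul_smul, inv_smul_smul, inv_smul_eq_iff.2 hw.symm, hbw]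
  · -- outside it
    obtain ⟨c, hc⟩ : ∃ c : K, S.σ g c ≠ c := by
      by_contra h
      push Not at h
      exact hg (MonoidHom.mem_ker.2 (RingEquiv.ext h))
    refine card_sq_le_card (fixAdd (V := V) g) (DistribSMul.toAddMonoidHom V c) fun u hu w hw e => ?_
    change g • u = u at hu
    change g • w = w at hw
    have e' : u = c • w := e
    rw [e', S.semi, hw] at hu
    by_contra hw0
    exact hc (smul_left_injective K hw0 hu)

/-- Primitive solvable linear groups have a section. -/
theorem hasSect : HasSect := by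
  intro G V _ _ _ _ _ _ hs hirr hprim
  haveI := hs
  haveI := hirr.1
  obtain ⟨K, _, _, _, ⟨S⟩⟩ := H21.Base3.exists_frame hirr hprim
  exact sectData_of_frame S

end H27.Orbit
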