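import Cfsg.Agent.H27.Orbit.Derived
import Cfsg.Agent.H35.OddBase.Primitive

/-!
Orders and orbit counts in a primitive linear group.
-/

set_option autoImplicit false
set_option linter.style.haveILetI false
set_option linter.unusedSectionVars false

namespace H27.Orbit

open MulAction

section Orbits

variable {G V : Type*} [Group G] [Finite G] [MulAction G V] [Finite V]

theorem card_orbit_dvd (v : V) : Nat.card (orbit G v) ∣ Nat.card G :=
  ⟨Nat.card (stabilizer G v), by
    rw [← Nat.card_prod, Nat.card_congr (orbitProdStabilizerEquivGroup G v)]⟩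

theorem ncard_orbit_le (v : V) : (orbit G v).ncard ≤ Nat.card G :=
  Nat.card_coe_set_eq (orbit G v) ▸ Nat.le_of_dvd Nat.card_pos (card_orbit_dvd v)

/-- Inequivalent points outside a bad set. -/
theorem spread_of_count (bad : Set V) {d : ℕ} (hsmall : ∀ v, v ∉ bad → SmallStab G V d v) :
    ∀ k : ℕ, bad.ncard + (k - 1) * Nat.card G < Nat.card V → Spread k d G V := by
  intro k
  suffices h : bad.ncard + (k - 1) * Nat.card G < Nat.card V →
      ∃ t : Fin k → V, (∀ i, t i ∉ bad) ∧ ∀ i j (g : G), g • t i = t j → i = j from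
    fun hk => by obtain ⟨t, h1, h2⟩ := h hk; exact ⟨t, fun i => hsmall _ (h1 i), h2⟩
  induction k with
  | zero => exact fun _ => ⟨Fin.elim0, fun i => i.elim0, fun i => i.elim0⟩
  | succ k ih =>
    intro hk
    obtain ⟨t, h1, h2⟩ := ih (lt_of_le_of_lt
      (Nat.add_le_add_left (Nat.mul_le_mul_right _ (by omega)) _) hk)
    obtain ⟨w, hw⟩ : ∃ w, w ∉ bad ∪ ⋃ i, orbit G (t i) := by
      by_contra h
      push Not at h
      have h3 : Nat.card V ≤ bad.ncard + k * Nat.card G := by
        calc Nat.card V = (Set.univ : Set V).ncard := (Set.ncard_univ V).symm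
          _ ≤ (bad ∪ ⋃ i, orbit G (t i)).ncard := Set.ncard_le_ncard (fun x _ => h x) (Set.toFinite _)
          _ ≤ bad.ncard + (⋃ i, orbit G (t i)).ncard := Set.ncard_union_le _ _
          _ ≤ bad.ncard + ∑ _i : Fin k, Nat.card G := Nat.add_le_add_left
              ((Set.ncard_iUnion_le_of_fintype _).trans (Finset.sum_le_sum fun i _ => ncard_orbit_le _)) _
          _ = bad.ncard + k * Nat.card G := by simp
      rw [Nat.add_sub_cancel] at hk
      omega
    simp only [Set.mem_union, Set.mem_iUnion, not_or, not_exists] at hw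
    refine ⟨Fin.snoc t w, fun i => ?_, fun i j g hg => ?_⟩
    · refine Fin.lastCases ?_ (fun i => ?_) i
      · simpa using hw.1
      · simpa using h1 i
    · revert hg
      refine Fin.lastCases ?_ (fun i => ?_) i <;> refine Fin.lastCases ?_ (fun j => ?_) j <;>
        intro hg <;> simp only [Fin.snoc_castSucc, Fin.snoc_last] at hg
      · rfl
      · exact absurd ⟨g⁻¹, inv_smul_eq_iff.2 hg.symm⟩ (hw.2 j)
      · exact absurd ⟨g, hg⟩ (hw.2 i)
      · exact congrArg Fin.castSucc (h2 i j g hg)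

end Orbits

section Module

variable {G V : Type*} [Group G] [Finite G] [AddCommGroup V] [Finite V] [DistribMulAction G V]

theorem ncard_singleton_add (k : ℕ) (h : k * Nat.card G + 1 < Nat.card V) :
    ({0} : Set V).ncard + k * Nat.card G < Nat.card V := by
  rw [Set.ncard_singleton]; omega

/-- Zero and further non-zero vectors. -/
theorem spread_cons_zero {k d : ℕ} (h0 : SmallStab G V d (0 : V)) (t : Fin k → V)
    (hne : ∀ i, t i ≠ 0) (hs : ∀ i, SmallStab G V d (t i))
    (h2 : ∀ i j (g : G), g • t i = t j → i = j) : Spread (k + 1) d G V := by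
  refine ⟨Fin.cons 0 t, fun i => ?_, fun i j g hg => ?_⟩
  · refine Fin.cases ?_ (fun i => ?_) i
    · simpa using h0
    · simpa using hs i
  · revert hg
    refine Fin.cases ?_ (fun i => ?_) i <;> refine Fin.cases ?_ (fun j => ?_) j <;>
      intro hg <;> simp only [Fin.cons_zero, Fin.cons_succ, smul_zero] at hg
    · rfl
    · exact absurd hg.symm (hne j)
    · exact absurd ((smul_eq_zero_iff_eq g).1 hg) (hne i)
    · exact congrArg Fin.succ (h2 i j g hg)

/-- Two inequivalent non-zero vectors unless the group order allows transitivity. -/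
theorem two_nonzero [Nontrivial V] {M : ℕ} (hM : Nat.card G ∣ M) (h : ¬ (Nat.card V - 1) ∣ M) :
    ∃ v w : V, v ≠ 0 ∧ w ≠ 0 ∧ w ∉ orbit G v := by
  obtain ⟨v, hv⟩ := exists_ne (0 : V)
  by_contra hcon
  push Not at hcon
  have hO : orbit G v = ({0} : Set V)ᶜ := by
    ext w
    refine ⟨fun hw h0 => ?_, fun hw => hcon v w hv hw⟩
    obtain ⟨g, rfl⟩ := hw
    exact hv ((smul_eq_zero_iff_eq g).1 h0)
  have h1 := card_orbit_dvd (G := G) v
  rw [Nat.card_coe_set_eq, hO, Set.ncard_compl, Set.ncard_singleton] at h1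
  exact h (h1.trans hM)

/-- Three inequivalent non-zero vectors unless two divisors of the group order fill the space. -/
theorem three_nonzero [Nontrivial V] {M : ℕ} (hM : Nat.card G ∣ M)
    (h : ¬ (Nat.card V - 1) ∣ M) (h' : ∀ o, o ∣ M → o < Nat.card V - 1 → ¬ (Nat.card V - 1 - o) ∣ M) :
    ∃ u v w : V, u ≠ 0 ∧ v ≠ 0 ∧ w ≠ 0 ∧ v ∉ orbit G u ∧ w ∉ orbit G u ∧ w ∉ orbit G v := by
  obtain ⟨u, v, hu, hv, huv⟩ := two_nonzero hM h
  by_contra hcon
  push Not at hcon
  have hU : orbit G u ∪ orbit G v = ({0} : Set V)ᶜ := by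
    ext w
    refine ⟨fun hw h0 => ?_, fun hw => ?_⟩
    · rcases hw with ⟨g, rfl⟩ | ⟨g, rfl⟩
      · exact hu ((smul_eq_zero_iff_eq g).1 h0)
      · exact hv ((smul_eq_zero_iff_eq g).1 h0)
    · by_cases hwu : w ∈ orbit G u
      · exact Or.inl hwu
      · exact Or.inr (hcon u v w hu hv hw huv hwu)
  have hdis : Disjoint (orbit G u) (orbit G v) := Set.disjoint_left.2 fun x hxu hxv => huv (by
    rw [← orbit_eq_iff.2 hxu, orbit_eq_iff.2 hxv]; exact mem_orbit_self v)
  have h1 := Set.ncard_union_eq hdis (Set.toFinite _) (Set.toFinite _)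
  rw [hU, Set.ncard_compl, Set.ncard_singleton] at h1
  have d1 := card_orbit_dvd (G := G) u
  have d2 := card_orbit_dvd (G := G) v
  rw [Nat.card_coe_set_eq] at d1 d2
  have hpos : 0 < (orbit G v).ncard := (Set.ncard_pos (Set.toFinite _)).2 ⟨v, mem_orbit_self v⟩
  refine h' _ (d1.trans hM) (by omega) ?_
  rw [show Nat.card V - 1 - (orbit G u).ncard = (orbit G v).ncard by omega]
  exact d2.trans hM

theorem not_smul_eq {v w : V} (h : w ∉ orbit G v) :
    (∀ g : G, g • v ≠ w) ∧ ∀ g : G, g • w ≠ v :=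
  ⟨fun g hg => h ⟨g, hg⟩, fun g hg => h ⟨g⁻¹, inv_smul_eq_iff.2 hg.symm⟩⟩

theorem spread_two_of {d : ℕ} {v w : V} (hv : SmallStab G V d v) (hw : SmallStab G V d w)
    (h : w ∉ orbit G v) : Spread 2 d G V := by
  obtain ⟨h1, h2⟩ := not_smul_eq h
  refine ⟨![v, w], fun i => by fin_cases i <;> simpa, fun i j g hg => ?_⟩
  fin_cases i <;> fin_cases j <;> simp_all

theorem spread_three_of {d : ℕ} {u v w : V} (hu : SmallStab G V d u) (hv : SmallStab G V d v)
    (hw : SmallStab G V d w) (h1 : v ∉ orbit G u) (h2 : w ∉ orbit G u) (h3 : w ∉ orbit G v) :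
    Spread 3 d G V := by
  obtain ⟨a1, b1⟩ := not_smul_eq h1
  obtain ⟨a2, b2⟩ := not_smul_eq h2
  obtain ⟨a3, b3⟩ := not_smul_eq h3
  refine ⟨![u, v, w], fun i => by fin_cases i <;> simpa, fun i j g hg => ?_⟩
  fin_cases i <;> fin_cases j <;> simp_all

end Module

namespace SectData

variable {G V : Type} [Group G] [AddCommGroup V] [DistribMulAction G V] (S : SectData G V)

/-- The permutations of the section induced by the group. -/
def actRange : Subgroup (Equiv.Perm S.N) := (MulAction.toPermHom G S.N).range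

instance : Finite S.actRange := Finite.of_injective _ Subtype.val_injective

instance : DistribMulAction ↥S.actRange S.N where
  smul r n := (r : Equiv.Perm S.N) n
  one_smul n := rfl
  mul_smul r s n := rfl
  smul_zero r := by
    obtain ⟨_, g, rfl⟩ := r
    exact smul_zero g
  smul_add r a b := by
    obtain ⟨_, g, rfl⟩ := r
    exact smul_add g a b

instance : FaithfulSMul ↥S.actRange S.N where
  eq_of_smul_eq_smul h := Subtype.ext (Equiv.ext h)

theorem cr_actRange : H35.OddBase.IsCR ↥S.actRange S.N := by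
  intro U hU
  obtain ⟨W, h1, h2, h3⟩ := S.cr U fun g v hv => hU ⟨_, g, rfl⟩ v hv
  refine ⟨W, fun r w hw => ?_, h2, h3⟩
  obtain ⟨_, g, rfl⟩ := r
  exact h1 g w hw

theorem isSolvable_actRange [Group.IsSolvable G] : Group.IsSolvable ↥S.actRange :=
  Group.isSolvable_of_surjective (MulAction.toPermHom G S.N).rangeRestrict_surjective

theorem dlActs_of_actRange {x : ℕ} (h : DlActs ↥S.actRange S.N x) : DlActs G S.N x := fun g hg n =>
  h ((MulAction.toPermHom G S.N).rangeRestrict g)
    (map_derivedSeries_le_derivedSeries _ x ⟨g, hg, rfl⟩) n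

/-- The order of the field action. -/
noncomputable def m : ℕ := Nat.card S.σ.range

theorem two_pow_m_le : 2 ^ S.m ≤ Nat.card S.K := H35.OddBase.two_pow_card_range_le S.σ

theorem m_pos : 0 < S.m := by
  haveI : Finite (RingAut S.K) :=
    Finite.of_injective (fun e : RingAut S.K => (e : S.K → S.K)) DFunLike.coe_injective
  exact Nat.card_pos

theorem exists_root_m : ∃ k, Nat.card S.K = k ^ S.m := by
  haveI : Finite (RingAut S.K) :=
    Finite.of_injective (fun e : RingAut S.K => (e : S.K → S.K)) DFunLike.coe_injective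
  haveI := Fintype.ofFinite ↥S.σ.range
  refine ⟨Nat.card (FixedPoints.subfield (↥S.σ.range) S.K), ?_⟩
  rw [Module.natCard_eq_pow_finrank (K := FixedPoints.subfield (↥S.σ.range) S.K) (V := S.K),
    FixedPoints.finrank_eq_card (↥S.σ.range) S.K, m, ← Nat.card_eq_fintype_card (α := ↥S.σ.range)]

theorem linear_of_m (h : S.m = 1) : S.Linear := by
  have h1 : S.σ.range = ⊥ := Subgroup.eq_bot_of_card_eq _ h
  show S.σ.ker = ⊤
  rw [MonoidHom.range_eq_bot_iff.1 h1, MonoidHom.ker_one]

theorem stab_le_of_linear (hl : S.Linear) (v : V) : stabilizer G v ≤ S.σ.ker := hl.symm ▸ le_top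

theorem card_dvd [Finite G] :
    Nat.card G ∣ S.m * (Nat.card S.K - 1) * S.e ^ 2 * Nat.card S.actRange := by
  have h1 : Nat.card G = Nat.card S.A * (S.A.relIndex S.B * (S.B.relIndex S.σ.ker * S.σ.ker.index)) := by
    rw [Subgroup.relIndex_mul_index S.B_le, Subgroup.relIndex_mul_index S.A_le, Subgroup.card_mul_index]
  set φ := MulAction.toPermHom G S.N
  have hle : φ.ker ⊓ S.σ.ker ≤ S.B := fun g hg =>
    S.ker_le g hg.2 fun n => DFunLike.congr_fun (MonoidHom.mem_ker.1 hg.1) n
  have h2 : S.B.relIndex S.σ.ker ∣ Nat.card S.actRange := by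
    refine (Subgroup.relIndex_dvd_of_le_left S.σ.ker hle).trans ?_
    rw [Subgroup.inf_relIndex_right, Subgroup.relIndex_ker]
    exact Subgroup.card_dvd_of_le (Subgroup.map_le_range φ S.σ.ker)
  have h3 : S.σ.ker.index = S.m := Subgroup.index_ker S.σ
  rw [h1, S.relIndex, h3]
  have := Nat.mul_dvd_mul (Nat.mul_dvd_mul (dvd_refl (S.e ^ 2)) h2)
    (Nat.mul_dvd_mul (dvd_refl S.m) S.dvd_A)
  calc _ = S.e ^ 2 * S.B.relIndex S.σ.ker * (S.m * Nat.card ↥S.A) := by ring
    _ ∣ S.e ^ 2 * Nat.card S.actRange * (S.m * (Nat.card S.K - 1)) := this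
    _ = _ := by ring

end SectData

end H27.Orbit
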