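import Mathlib
import Cfsg.Agent.H35.OddBase.Basic
import Cfsg.Agent.H34.EndDecomp

/-!
Vectors with small stabilisers: definitions shared by the pieces of the derived length theorem.
-/

set_option autoImplicit false

namespace H27.Orbit

open MulAction

/-- The `n`-th derived subgroup of a subgroup, inside the whole group. -/
def dIn {G : Type*} [Group G] (H : Subgroup G) (n : ℕ) : Subgroup G :=
  (derivedSeries ↥H n).map H.subtype

/-- The action has derived length at most `n` modulo its kernel. -/
def DlActs (G X : Type*) [Group G] [MulAction G X] (n : ℕ) : Prop :=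
  ∀ g ∈ derivedSeries G n, ∀ x : X, g • x = x

/-- The stabiliser of a point acts with derived length at most `d`. -/
def SmallStab (G V : Type*) [Group G] [MulAction G V] (d : ℕ) (v : V) : Prop :=
  ∀ g ∈ dIn (stabilizer G v) d, ∀ x : V, g • x = x

/-- `c` vectors in different orbits, each with a stabiliser of derived length at most `d`. -/
def Spread (c d : ℕ) (G V : Type*) [Group G] [MulAction G V] : Prop :=
  ∃ t : Fin c → V, (∀ i, SmallStab G V d (t i)) ∧ ∀ (i j : Fin c) (g : G), g • t i = t j → i = j

/-- The three kinds of irreducible modules in the induction. -/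
def Good (G V : Type*) [Group G] [MulAction G V] : Prop :=
  Spread 5 9 G V ∨ Spread 3 7 G V ∨ Spread 2 5 G V

/-- The elements preserving a colouring. -/
def colStab {G Ω κ : Type*} [Group G] [MulAction G Ω] (col : Ω → κ) : Subgroup G where
  carrier := {g | ∀ ω, col (g • ω) = col ω}
  one_mem' ω := by rw [one_smul]
  mul_mem' {a b} ha hb ω := by rw [mul_smul, ha, hb]
  inv_mem' {a} ha ω := by rw [← ha, smul_inv_smul]

/-- `k` inequivalent colourings with `c` colours whose stabilisers act with derived length at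
most `a`. -/
def ColSpread (k a c : ℕ) (G Ω : Type*) [Group G] [MulAction G Ω] : Prop :=
  ∃ col : Fin k → Ω → Fin c, (∀ i, ∀ g ∈ dIn (colStab (G := G) (col i)) a, ∀ ω : Ω, g • ω = ω) ∧
    ∀ (i j : Fin k) (g : G), (∀ ω, col j (g • ω) = col i ω) → i = j

/-- What is needed from primitive solvable permutation groups. -/
def PrimColours : Prop :=
  ∀ (G Ω : Type) [Group G] [Finite G] [MulAction G Ω] [Finite Ω] [Nontrivial Ω],
    Group.IsSolvable G → MulAction.IsPreprimitive G Ω →
      ColSpread 5 0 5 G Ω ∧ ColSpread 5 2 3 G Ω ∧ (ColSpread 3 2 2 G Ω ∨ ColSpread 5 4 2 G Ω)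

/-- What is needed from primitive solvable linear groups. -/
def PrimLinear : Prop :=
  ∀ (G V : Type) [Group G] [Finite G] [AddCommGroup V] [Finite V] [DistribMulAction G V]
    [FaithfulSMul G V], Group.IsSolvable G → H35.OddBase.IsIrr G V →
    H34.IsPrim (DistribMulAction.toAddMonoidEnd G V) → Good G V

/-- What is needed from primitive linear groups of odd order in odd characteristic. -/
def PrimOdd : Prop :=
  ∀ (G V : Type) [Group G] [Finite G] [AddCommGroup V] [Finite V] [DistribMulAction G V]
    [FaithfulSMul G V], Odd (Nat.card G) → Odd (Nat.card V) → H35.OddBase.IsIrr G V →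
    H34.IsPrim (DistribMulAction.toAddMonoidEnd G V) →
    ∃ v : V, v ≠ 0 ∧ SmallStab G V 1 v

/-- The section of a primitive solvable linear group: a field of scalars `K`, the scalars `A`,
the extraspecial part `B`, and the section `N ≅ B / A` with the action of the whole group. -/
structure SectData (G V : Type) [Group G] [AddCommGroup V] [DistribMulAction G V] where
  K : Type
  [field : Field K]
  [finiteK : Finite K]
  [module : Module K V]
  σ : G →* RingAut K
  semi : ∀ (g : G) (c : K) (v : V), g • (c • v) = σ g c • g • v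
  A : Subgroup G
  B : Subgroup G
  A_le : A ≤ B
  B_le : B ≤ σ.ker
  scal : ∀ a ∈ A, ∃ c : K, c ≠ 0 ∧ ∀ v : V, a • v = c • v
  comm : ∀ x ∈ B, ∀ y ∈ B, x * y * x⁻¹ * y⁻¹ ∈ A
  dvd_A : Nat.card ↥A ∣ Nat.card K - 1
  e : ℕ
  relIndex : A.relIndex B = e ^ 2
  e_le : e ≤ Module.finrank K V
  root : ∀ s : ℕ, s.Prime → s ∣ e → s ∣ Nat.card K - 1
  N : Type
  [groupN : AddCommGroup N]
  [finiteN : Finite N]
  [actN : DistribMulAction G N]
  cr : H35.OddBase.IsCR G N
  card_N : Nat.card N = e ^ 2
  ker_le : ∀ g ∈ σ.ker, (∀ x : N, g • x = x) → g ∈ B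
  center_le : ∀ x ∈ B, (∀ y ∈ B, x * y = y * x) → x ∈ A
  centralizer_le : ∀ g ∈ σ.ker, (∀ y ∈ B, g * y * g⁻¹ * y⁻¹ ∈ A) → g ∈ B
  three : e = 3 → dIn σ.ker 3 ≤ B
  fix_B : ∀ g ∈ B, g ∉ A → Nat.card {v : V // g • v = v} ^ 2 ≤ Nat.card V
  fix_ker : ∀ g ∈ σ.ker, g ∉ A → Nat.card {v : V // g • v = v} ^ 4 ≤ Nat.card V ^ 3
  fix_out : ∀ g, g ∉ σ.ker → Nat.card {v : V // g • v = v} ^ 2 ≤ Nat.card V

attribute [instance] SectData.field SectData.finiteK SectData.module SectData.groupN
  SectData.finiteN SectData.actN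

/-- Primitive solvable linear groups have such a section. -/
def HasSect : Prop :=
  ∀ (G V : Type) [Group G] [Finite G] [AddCommGroup V] [Finite V] [DistribMulAction G V]
    [FaithfulSMul G V], Group.IsSolvable G → H35.OddBase.IsIrr G V →
    H34.IsPrim (DistribMulAction.toAddMonoidEnd G V) → Nonempty (SectData G V)

/-- A completely reducible solvable group on a group of order `r ^ n` has derived length at most
`b`. -/
def DlBound (r n b : ℕ) : Prop :=
  ∀ (G V : Type) [Group G] [Finite G] [AddCommGroup V] [Finite V] [DistribMulAction G V],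
    Group.IsSolvable G → H35.OddBase.IsCR G V → Nat.card V = r ^ n → DlActs G V b

/-- The derived length bounds used for the section of a primitive group. -/
structure DlTable : Prop where
  anyTwo : ∀ r : ℕ, r.Prime → DlBound r 2 4
  twoTwo : DlBound 2 2 2
  twoFour : DlBound 2 4 3
  twoSix : DlBound 2 6 6
  twoSixAlt : ∀ (G V : Type) [Group G] [Finite G] [AddCommGroup V] [Finite V]
    [DistribMulAction G V] [FaithfulSMul G V], Group.IsSolvable G → H35.OddBase.IsCR G V →
    Nat.card V = 2 ^ 6 → DlActs G V 5 ∨ Nat.card G ∣ 2592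
  twoEight : DlBound 2 8 6
  threeFour : DlBound 3 4 5
  threeSix : DlBound 3 6 7
  fiveFour : DlBound 5 4 7
  /-- every section of order `e ^ 2`, `e < 256` -/
  small : ∀ r a : ℕ, r.Prime → 1 ≤ a → r ^ a < 256 → DlBound r (2 * a) 8

end H27.Orbit
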