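import Mathlib

/-!
Numerical facts behind the orbit counts for primitive solvable linear groups: the field has
order `Q`, the space dimension `d`, the field automorphisms order `m`.
-/

set_option autoImplicit false

namespace H27.Orbit.Num

/-- Two divisors of the group order cannot fill the non-zero vectors. -/
def Three (N M : ℕ) : Prop :=
  ¬ N ∣ M ∧ ∀ o, o ∣ M → o < N → ¬ (N - o) ∣ M

theorem Three.mono {N M M' : ℕ} (h : Three N M') (hM : M ∣ M') : Three N M :=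
  ⟨fun h1 => h.1 (h1.trans hM), fun o ho hlt h2 => h.2 o (ho.trans hM) hlt (h2.trans hM)⟩

theorem three_of_lt {N M : ℕ} (h0 : 0 < M) (h : 2 * M < N) : Three N M := by
  refine ⟨fun h1 => ?_, fun o ho hlt h2 => ?_⟩
  · have := Nat.le_of_dvd h0 h1; omega
  · have := Nat.le_of_dvd h0 ho; have := Nat.le_of_dvd h0 h2; omega

theorem key {Q d m c : ℕ} (hQ : 3 ≤ Q) (hd : 1 ≤ d) (h : c * m < Q ^ (d - 1)) :
    m * (Q - 1) * c < Q ^ d - 1 := by
  obtain ⟨d, rfl⟩ := Nat.exists_eq_add_of_le' hd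
  obtain ⟨q, rfl⟩ := Nat.exists_eq_add_of_le' (show 1 ≤ Q by omega)
  rw [Nat.add_sub_cancel] at h ⊢
  rw [pow_succ]
  generalize (q + 1) ^ d = T at h ⊢
  have h1 : m * q * c + q ≤ T * q := by
    calc m * q * c + q = (c * m + 1) * q := by ring
      _ ≤ T * q := Nat.mul_le_mul_right _ h
  have h2 : T * (q + 1) = T * q + T := by ring
  omega

theorem two_mul_le_two_pow (m : ℕ) : 2 * m ≤ 2 ^ m := by
  induction m with
  | zero => simp
  | succ n ih =>
    rcases Nat.eq_zero_or_pos n with rfl | hn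
    · norm_num
    · rw [pow_succ]; omega

theorem eight_mul_le_two_pow (m : ℕ) : 8 * m ≤ 2 ^ m + 16 := by
  induction m with
  | zero => simp
  | succ n ih =>
    by_cases hn : n < 4
    · interval_cases n <;> norm_num
    · have : 2 ^ 4 ≤ 2 ^ n := Nat.pow_le_pow_right (by norm_num) (by omega)
      rw [pow_succ]; omega

/-- Outside a finite window the crude bound suffices. -/
theorem tail {c e D Q0 Q d m : ℕ} (hD : c < 3 ^ (D - 2)) (h0 : c * (Q0 + 16) < 8 * Q0 ^ (e - 1))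
    (he : 2 ≤ e) (hD2 : 2 ≤ D) (hQ0 : Q0 ≤ 256) (hQ : 3 ≤ Q) (hm : 2 ^ m ≤ Q) (hd : e ≤ d) :
    c * m < Q ^ (d - 1) ∨ (Q < Q0 ∧ d < D ∧ m < 8) := by
  by_cases hdD : D ≤ d
  · refine Or.inl ?_
    have h1 : m ≤ Q := Nat.le_trans (Nat.lt_two_pow_self).le hm
    calc c * m ≤ c * Q := Nat.mul_le_mul_left _ h1
      _ < 3 ^ (D - 2) * Q := Nat.mul_lt_mul_of_pos_right hD (by omega)
      _ ≤ Q ^ (D - 2) * Q := Nat.mul_le_mul_right _ (Nat.pow_le_pow_left hQ _)
      _ = Q ^ (D - 1) := by rw [← pow_succ]; congr 1; omega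
      _ ≤ Q ^ (d - 1) := Nat.pow_le_pow_right (by omega) (by omega)
  by_cases hQQ : Q0 ≤ Q
  · refine Or.inl (lt_of_lt_of_le ?_ (Nat.pow_le_pow_right (by omega) (show e - 1 ≤ d - 1 by omega)))
    have h8 : 8 * m ≤ Q + 16 := (eight_mul_le_two_pow m).trans (by omega)
    have hQ0p : 0 < Q0 := by
      by_contra h
      obtain rfl : Q0 = 0 := by omega
      rw [zero_pow (show e - 1 ≠ 0 by omega)] at h0; omega
    have hlt : c * (Q + 16) * Q0 < 8 * Q ^ (e - 1) * Q0 := by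
      calc c * (Q + 16) * Q0 ≤ c * (Q0 + 16) * Q := by nlinarith
        _ < 8 * Q0 ^ (e - 1) * Q := Nat.mul_lt_mul_of_pos_right h0 (by omega)
        _ = 8 * Q0 ^ (e - 2) * Q * Q0 := by
          rw [show e - 1 = e - 2 + 1 by omega, pow_succ]; ring
        _ ≤ 8 * Q ^ (e - 2) * Q * Q0 := Nat.mul_le_mul_right _ (Nat.mul_le_mul_right _
          (Nat.mul_le_mul_left _ (Nat.pow_le_pow_left hQQ _)))
        _ = 8 * Q ^ (e - 1) * Q0 := by
          rw [show e - 1 = e - 2 + 1 by omega, pow_succ]; ring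
    have h9 : 8 * (c * m) < 8 * Q ^ (e - 1) :=
      lt_of_le_of_lt (by nlinarith) (Nat.lt_of_mul_lt_mul_right hlt)
    omega
  refine Or.inr ⟨by omega, by omega, ?_⟩
  have : 2 ^ m < 2 ^ 8 := lt_of_le_of_lt hm (by omega)
  exact (Nat.pow_lt_pow_iff_right (by norm_num)).1 this

/-- Test that `Q` is an `m`-th power. -/
def rootB (Q m : ℕ) : Bool := (List.range (Q + 1)).any fun k => k ^ m == Q

theorem rootB_of {Q m : ℕ} (hm : 0 < m) (h : ∃ k, Q = k ^ m) : rootB Q m = true := by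
  obtain ⟨k, rfl⟩ := h
  simp only [rootB, List.any_eq_true, List.mem_range, beq_iff_eq]
  exact ⟨k, Nat.lt_succ_of_le (Nat.le_self_pow hm.ne' k), rfl⟩

/-- All triples in a window. -/
def win (Q0 d0 D : ℕ) (p : ℕ → ℕ → ℕ → Bool) : Bool :=
  (List.range Q0).all fun Q => decide (Q < 3) || (List.range D).all fun d => decide (d < d0) ||
    (List.range 8).all fun m => decide (m = 0) || decide (Q < 2 ^ m) || p Q d m

theorem win_spec {Q0 d0 D Q d m : ℕ} {p : ℕ → ℕ → ℕ → Bool} (h : win Q0 d0 D p = true)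
    (hQ : 3 ≤ Q) (hQ' : Q < Q0) (hd : d0 ≤ d) (hd' : d < D) (hm : 0 < m) (hm' : m < 8)
    (hm2 : 2 ^ m ≤ Q) : p Q d m = true := by
  simp only [win, List.all_eq_true, List.mem_range, Bool.or_eq_true, decide_eq_true_eq] at h
  rcases h Q hQ' with h | h
  · omega
  rcases h d hd' with h | h
  · omega
  rcases h m hm' with (h | h) | h
  · omega
  · omega
  · exact h

/-- The test for non-transitivity. -/
def twoB (c Q d m : ℕ) : Bool :=
  decide (c * m < Q ^ (d - 1)) || decide (m * (Q - 1) * c % (Q ^ d - 1) ≠ 0)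

theorem not_dvd_of_twoB {c Q d m M : ℕ} (hc : 0 < c) (hm : 0 < m) (hQ : 3 ≤ Q) (hd : 1 ≤ d)
    (h : twoB c Q d m = true) (hM : M ∣ m * (Q - 1) * c) : ¬ (Q ^ d - 1) ∣ M := by
  intro h1
  have h2 := h1.trans hM
  simp only [twoB, Bool.or_eq_true, decide_eq_true_eq] at h
  rcases h with h | h
  · have := key hQ hd h
    have := Nat.le_of_dvd (Nat.mul_pos (Nat.mul_pos hm (by omega)) hc) h2
    omega
  · exact h (Nat.mod_eq_zero_of_dvd h2)

theorem twoB_of_lt {c Q d m : ℕ} (h : c * m < Q ^ (d - 1)) : twoB c Q d m = true := by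
  simp [twoB, h]

variable {Q d m M : ℕ}

theorem two_three (hQ : 3 ≤ Q) (hr : Q % 3 = 1) (hm : 0 < m) (hm2 : 2 ^ m ≤ Q) (hd : 3 ≤ d)
    (hM : M ∣ m * (Q - 1) * 432) : ¬ (Q ^ d - 1) ∣ M := by
  refine not_dvd_of_twoB (by norm_num) hm hQ (by omega) ?_ hM
  rcases tail (c := 432) (e := 3) (D := 10) (Q0 := 70) (by norm_num) (by norm_num) (by norm_num)
    (by norm_num) (by norm_num) hQ hm2 hd with h | ⟨h1, h2, h3⟩
  · exact twoB_of_lt h
  · have hw : win 70 3 10 (fun Q d m => Q % 3 != 1 || twoB 432 Q d m) = true := by decide +kernel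
    simpa [hr] using win_spec hw hQ h1 hd h2 hm h3 hm2

theorem two_four (hQ : 3 ≤ Q) (hr : Q % 2 = 1) (hm : 0 < m) (hm2 : 2 ^ m ≤ Q) (hd : 4 ≤ d)
    (hne : ¬ (Q = 3 ∧ d = 4)) (hM : M ∣ m * (Q - 1) * 322560) : ¬ (Q ^ d - 1) ∣ M := by
  refine not_dvd_of_twoB (by norm_num) hm hQ (by omega) ?_ hM
  rcases tail (c := 322560) (e := 4) (D := 15) (Q0 := 210) (by norm_num) (by norm_num) (by norm_num)
    (by norm_num) (by norm_num) hQ hm2 hd with h | ⟨h1, h2, h3⟩
  · exact twoB_of_lt h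
  · have hw : win 210 4 15 (fun Q d m =>
        Q % 2 != 1 || (Q == 3 && d == 4) || twoB 322560 Q d m) = true := by decide +kernel
    simpa [hr, hne] using win_spec hw hQ h1 hd h2 hm h3 hm2

theorem two_five (hQ : 3 ≤ Q) (hr : Q % 5 = 1) (hm : 0 < m) (hm2 : 2 ^ m ≤ Q)
    (hk : ∃ k, Q = k ^ m) (hd : 5 ≤ d) (hM : M ∣ m * (Q - 1) * 12000) : ¬ (Q ^ d - 1) ∣ M := by
  refine not_dvd_of_twoB (by norm_num) hm hQ (by omega) ?_ hM
  rcases tail (c := 12000) (e := 5) (D := 12) (Q0 := 16) (by norm_num) (by norm_num) (by norm_num)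
    (by norm_num) (by norm_num) hQ hm2 hd with h | ⟨h1, h2, h3⟩
  · exact twoB_of_lt h
  · have hw : win 16 5 12 (fun Q d m => Q % 5 != 1 || !rootB Q m || twoB 12000 Q d m) = true := by
      decide +kernel
    simpa [hr, rootB_of hm hk] using win_spec hw hQ h1 hd h2 hm h3 hm2

theorem two_seven (hQ : 3 ≤ Q) (hr : Q % 7 = 1) (hm : 0 < m) (hm2 : 2 ^ m ≤ Q)
    (hk : ∃ k, Q = k ^ m) (hd : 7 ≤ d) (hM : M ∣ m * (Q - 1) * 98784) : ¬ (Q ^ d - 1) ∣ M := by
  refine not_dvd_of_twoB (by norm_num) hm hQ (by omega) ?_ hM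
  rcases tail (c := 98784) (e := 7) (D := 14) (Q0 := 15) (by norm_num) (by norm_num) (by norm_num)
    (by norm_num) (by norm_num) hQ hm2 hd with h | ⟨h1, h2, h3⟩
  · exact twoB_of_lt h
  · have hw : win 15 7 14 (fun Q d m => Q % 7 != 1 || !rootB Q m || twoB 98784 Q d m) = true := by
      decide +kernel
    simpa [hr, rootB_of hm hk] using win_spec hw hQ h1 hd h2 hm h3 hm2

theorem two_six (hQ : 3 ≤ Q) (hr : Q % 6 = 1) (hm : 0 < m) (hm2 : 2 ^ m ≤ Q)
    (hk : ∃ k, Q = k ^ m) (hd : 6 ≤ d) (h0 : 0 < M) (hM : M ≤ m * (Q - 1) * 10368) :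
    ¬ (Q ^ d - 1) ∣ M := by
  have h4 : m * (Q - 1) * 10368 < Q ^ d - 1 := by
    refine key hQ (by omega) ?_
    rcases tail (c := 10368) (e := 6) (D := 12) (Q0 := 13) (by norm_num) (by norm_num)
      (by norm_num) (by norm_num) (by norm_num) hQ hm2 hd with h | ⟨h1, h2, h3⟩
    · exact h
    · have hw : win 13 6 12 (fun Q d m =>
          Q % 6 != 1 || !rootB Q m || decide (10368 * m < Q ^ (d - 1))) = true := by decide +kernel
      simpa [hr, rootB_of hm hk] using win_spec hw hQ h1 hd h2 hm h3 hm2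
  intro h
  have := Nat.le_of_dvd h0 h
  omega

/-- The product of a factorisation. -/
def fprod : List (ℕ × ℕ) → ℕ
  | [] => 1
  | (p, a) :: l => p ^ a * fprod l

theorem fprod_pos {l : List (ℕ × ℕ)} (h : ∀ x ∈ l, x.1.Prime) : 0 < fprod l := by
  induction l with
  | nil => exact one_pos
  | cons y l ih =>
    obtain ⟨q, b⟩ := y
    exact Nat.mul_pos (pow_pos (h (q, b) List.mem_cons_self).pos _)
      (ih fun x hx => h x (List.mem_cons_of_mem _ hx))

/-- Test all divisors below `N`. -/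
def divAll (f : ℕ → Bool) (N : ℕ) : List (ℕ × ℕ) → ℕ → Bool
  | [], acc => f acc
  | (p, a) :: l, acc =>
    (List.range (a + 1)).all fun i => decide (N ≤ acc * p ^ i) || divAll f N l (acc * p ^ i)

theorem divAll_spec {f : ℕ → Bool} {N : ℕ} :
    ∀ {l : List (ℕ × ℕ)} {acc : ℕ}, (∀ x ∈ l, x.1.Prime) → divAll f N l acc = true →
      ∀ o, o ∣ fprod l → acc * o < N → f (acc * o) = true := by
  intro l
  induction l with
  | nil =>
    intro acc _ h o ho _
    obtain rfl : o = 1 := Nat.dvd_one.1 ho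
    simpa [divAll] using h
  | cons x l ih =>
    obtain ⟨p, a⟩ := x
    intro acc hp h o ho hlt
    obtain ⟨o1, o2, h1, h2, rfl⟩ := Nat.dvd_mul.1 ho
    obtain ⟨i, hi, rfl⟩ := (Nat.dvd_prime_pow (hp (p, a) List.mem_cons_self)).1 h1
    simp only [divAll, List.all_eq_true, List.mem_range, Bool.or_eq_true, decide_eq_true_eq] at h
    rcases h i (Nat.lt_succ_of_le hi) with h | h
    · rcases Nat.eq_zero_or_pos o2 with rfl | hpos
      · exact absurd (zero_dvd_iff.1 h2) (fprod_pos fun x hx => hp x (List.mem_cons_of_mem _ hx)).ne'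
      · have : acc * p ^ i ≤ acc * p ^ i * o2 := Nat.le_mul_of_pos_right _ hpos
        rw [mul_assoc] at this
        exact absurd ((h.trans this).trans_lt hlt) (lt_irrefl N)
    · rw [← mul_assoc] at hlt ⊢
      exact ih (fun x hx => hp x (List.mem_cons_of_mem _ hx)) h o2 h2 hlt

/-- The test for three orbits. -/
def threeB (l : List (ℕ × ℕ)) (c N : ℕ) : Bool :=
  decide (c * fprod l % N ≠ 0) && divAll (fun a => (List.range (c + 1)).all fun o =>
    decide (c % o ≠ 0) || decide (N ≤ a * o) || decide (c * fprod l % (N - a * o) ≠ 0)) N l 1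

theorem three_of_threeB {l : List (ℕ × ℕ)} {c N M : ℕ} (hc : 0 < c) (_ : 0 < N)
    (hl : ∀ x ∈ l, x.1.Prime) (h : threeB l c N = true) (hM : M ∣ c * fprod l) : Three N M := by
  refine Three.mono ?_ hM
  simp only [threeB, Bool.and_eq_true, decide_eq_true_eq] at h
  refine ⟨fun h1 => h.1 (Nat.mod_eq_zero_of_dvd h1), fun o ho hlt h2 => ?_⟩
  obtain ⟨o1, o2, h3, h4, rfl⟩ := Nat.dvd_mul.1 ho
  have hpos : 0 < o1 := Nat.pos_of_dvd_of_pos h3 hc
  have hlt' : 1 * o2 < N := by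
    rw [one_mul]; exact lt_of_le_of_lt (Nat.le_mul_of_pos_left _ hpos) hlt
  have := divAll_spec hl h.2 o2 h4 hlt'
  simp only [one_mul, List.all_eq_true, List.mem_range, Bool.or_eq_true, decide_eq_true_eq] at this
  rw [mul_comm o1 o2] at hlt h2
  rcases this o1 (Nat.lt_succ_of_le (Nat.le_of_dvd hc h3)) with (h5 | h5) | h5
  · exact h5 (Nat.mod_eq_zero_of_dvd h3)
  · omega
  · exact h5 (Nat.mod_eq_zero_of_dvd h2)

theorem three_of_key {Y c : ℕ} (hQ : 3 ≤ Q) (hm : 0 < m) (hd : 1 ≤ d) (hY : 0 < Y)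
    (hYc : 2 * Y ≤ c) (h : c * m < Q ^ (d - 1)) : Three (Q ^ d - 1) (m * (Q - 1) * Y) := by
  refine three_of_lt (Nat.mul_pos (Nat.mul_pos hm (by omega)) hY) ?_
  have := key hQ hd h
  have : m * (Q - 1) * (2 * Y) ≤ m * (Q - 1) * c := Nat.mul_le_mul_left _ hYc
  have e : m * (Q - 1) * (2 * Y) = 2 * (m * (Q - 1) * Y) := by ring
  omega

/-- The order of `GL₆(2)` times `64`. -/
def fac8 : List (ℕ × ℕ) := [(2, 21), (3, 4), (5, 1), (7, 2), (31, 1)]

/-- `2592 * 64`. -/
def fac8' : List (ℕ × ℕ) := [(2, 11), (3, 4)]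

/-- The order of `GL₄(3)` times `81`. -/
def fac9 : List (ℕ × ℕ) := [(2, 9), (3, 10), (5, 1), (13, 1)]

/-- The order of `GL₈(2)` times `256`. -/
def fac16 : List (ℕ × ℕ) := [(2, 36), (3, 5), (5, 2), (7, 2), (17, 1), (31, 1), (127, 1)]

/-- `Y` is the order of the induced group. -/
theorem three_eight {Y : ℕ} (hQ : 3 ≤ Q) (hr : Q % 2 = 1) (hm : 0 < m) (hm2 : 2 ^ m ≤ Q)
    (hk : ∃ k, Q = k ^ m) (hd : 8 ≤ d) (hne : ¬ (Q = 3 ∧ (d = 8 ∨ d = 12))) (hY : 0 < Y)
    (hle : Y ≤ 262144) (hdvd : 64 * Y ∣ fprod fac8) :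
    Three (Q ^ d - 1) (m * (Q - 1) * (64 * Y)) := by
  rcases tail (c := 33554432) (e := 8) (D := 19) (Q0 := 17) (by norm_num) (by norm_num)
    (by norm_num) (by norm_num) (by norm_num) hQ hm2 hd with h | ⟨h1, h2, h3⟩
  · exact three_of_key hQ hm (by omega) (by omega) (by omega) h
  · have hw : win 17 8 19 (fun Q d m => Q % 2 != 1 || !rootB Q m ||
        (Q == 3 && (d == 8 || d == 12)) || decide (33554432 * m < Q ^ (d - 1)) ||
        threeB fac8 (m * (Q - 1)) (Q ^ d - 1)) = true := by decide +kernel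
    have := win_spec hw hQ h1 hd h2 hm h3 hm2
    simp only [hr, rootB_of hm hk, bne_self_eq_false, Bool.not_true, Bool.false_or,
      Bool.or_eq_true, Bool.and_eq_true, beq_iff_eq, decide_eq_true_eq] at this
    rcases this with (h | h) | h
    · exact absurd h hne
    · exact three_of_key hQ hm (by omega) (by omega) (by omega) h
    · refine three_of_threeB (Nat.mul_pos hm (by omega)) ?_ (by decide) h
        (Nat.mul_dvd_mul_left _ hdvd)
      have := Nat.one_lt_pow (show d ≠ 0 by omega) (show 1 < Q by omega)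
      omega

/-- The exceptional cases are not transitive. -/
theorem two_eight (hd : d = 8 ∨ d = 12) (hM : M ∣ 2 * fprod fac8) : ¬ (3 ^ d - 1) ∣ M := by
  intro h
  have := Nat.mod_eq_zero_of_dvd (h.trans hM)
  rcases hd with rfl | rfl <;> simp [fac8, fprod] at this

theorem three_eight' {Y : ℕ} (hQ : 3 ≤ Q) (hr : Q % 2 = 1) (hd : 8 ≤ d) (hY : 0 < Y)
    (hdvd : Y ∣ 2592) : Three (Q ^ d - 1) (1 * (Q - 1) * (64 * Y)) := by
  have hle : Y ≤ 2592 := Nat.le_of_dvd (by norm_num) hdvd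
  rcases tail (c := 331776) (e := 8) (D := 14) (Q0 := 8) (m := 1) (by norm_num) (by norm_num)
    (by norm_num) (by norm_num) (by norm_num) hQ (by omega) hd with h | ⟨h1, h2, h3⟩
  · exact three_of_key hQ one_pos (by omega) (by omega) (by omega) h
  · have hw : win 8 8 14 (fun Q d m => Q % 2 != 1 || !(m == 1) ||
        decide (331776 * m < Q ^ (d - 1)) || threeB fac8' (m * (Q - 1)) (Q ^ d - 1)) = true := by
      decide +kernel
    have := win_spec hw hQ h1 hd h2 one_pos h3 (by omega)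
    simp only [hr, bne_self_eq_false, beq_self_eq_true, Bool.not_true, Bool.false_or,
      Bool.or_eq_true, decide_eq_true_eq] at this
    rcases this with h | h
    · exact three_of_key hQ one_pos (by omega) (by omega) (by omega) h
    · refine three_of_threeB (by omega) ?_ (by decide) h (Nat.mul_dvd_mul_left _ ?_)
      · have := Nat.one_lt_pow (show d ≠ 0 by omega) (show 1 < Q by omega)
        omega
      · exact Nat.mul_dvd_mul_left 64 hdvd

theorem five_eight {Y : ℕ} (hr : Q % 2 = 1) (hm : 1 < m) (hm2 : 2 ^ m ≤ Q)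
    (hk : ∃ k, Q = k ^ m) (hd : 8 ≤ d) (hle : Y ≤ 2592) :
    4 * (m * (Q - 1) * (64 * Y)) + 1 < Q ^ d := by
  have hQ : 3 ≤ Q := by
    have : 2 ^ 2 ≤ 2 ^ m := Nat.pow_le_pow_right (by norm_num) hm
    omega
  have h4 : 663552 * m < Q ^ (d - 1) := by
    rcases tail (c := 663552) (e := 8) (D := 16) (Q0 := 9) (by norm_num) (by norm_num)
      (by norm_num) (by norm_num) (by norm_num) hQ hm2 hd with h | ⟨h1, h2, h3⟩
    · exact h
    · have hw : win 9 8 16 (fun Q d m => Q % 2 != 1 || !rootB Q m || m == 1 ||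
          decide (663552 * m < Q ^ (d - 1))) = true := by decide +kernel
      simpa [hr, rootB_of (by omega) hk, show m ≠ 1 by omega] using
        win_spec hw hQ h1 hd h2 (by omega) h3 hm2
  have := key hQ (by omega) h4
  have : m * (Q - 1) * (4 * (64 * Y)) ≤ m * (Q - 1) * 663552 := Nat.mul_le_mul_left _ (by omega)
  have e : m * (Q - 1) * (4 * (64 * Y)) = 4 * (m * (Q - 1) * (64 * Y)) := by ring
  omega

theorem three_nine {Y : ℕ} (hQ : 3 ≤ Q) (hr : Q % 3 = 1) (hm : 0 < m) (hm2 : 2 ^ m ≤ Q)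
    (hk : ∃ k, Q = k ^ m) (hd : 9 ≤ d) (hY : 0 < Y)
    (hle : Y ≤ 531441) (hdvd : 81 * Y ∣ fprod fac9) :
    Three (Q ^ d - 1) (m * (Q - 1) * (81 * Y)) := by
  rcases tail (c := 86093442) (e := 9) (D := 19) (Q0 := 13) (by norm_num) (by norm_num)
    (by norm_num) (by norm_num) (by norm_num) hQ hm2 hd with h | ⟨h1, h2, h3⟩
  · exact three_of_key hQ hm (by omega) (by omega) (by omega) h
  · have hw : win 13 9 19 (fun Q d m => Q % 3 != 1 || !rootB Q m ||
        decide (86093442 * m < Q ^ (d - 1)) ||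
        threeB fac9 (m * (Q - 1)) (Q ^ d - 1)) = true := by decide +kernel
    have := win_spec hw hQ h1 hd h2 hm h3 hm2
    simp only [hr, rootB_of hm hk, bne_self_eq_false, Bool.not_true, Bool.false_or,
      Bool.or_eq_true, decide_eq_true_eq] at this
    rcases this with h | h
    · exact three_of_key hQ hm (by omega) (by omega) (by omega) h
    · refine three_of_threeB (Nat.mul_pos hm (by omega)) ?_ (by decide) h
        (Nat.mul_dvd_mul_left _ hdvd)
      have := Nat.one_lt_pow (show d ≠ 0 by omega) (show 1 < Q by omega)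
      omega

theorem three_sixteen {Y : ℕ} (hd : 16 ≤ d) (hY : 0 < Y)
    (hle : Y ≤ 16777216) (hdvd : 256 * Y ∣ fprod fac16) :
    Three (3 ^ d - 1) (1 * (3 - 1) * (256 * Y)) := by
  by_cases h22 : 22 ≤ d
  · refine three_of_key le_rfl one_pos (by omega) (by omega) (show 2 * (256 * Y) ≤ 8589934592 by omega) ?_
    calc 8589934592 * 1 < 3 ^ 21 := by norm_num
      _ ≤ 3 ^ (d - 1) := Nat.pow_le_pow_right (by norm_num) (by omega)
  · have hw : ((List.range 22).all fun d => decide (d < 16) || threeB fac16 2 (3 ^ d - 1)) = true := by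
      decide +kernel
    simp only [List.all_eq_true, List.mem_range, Bool.or_eq_true, decide_eq_true_eq] at hw
    rcases hw d (by omega) with h | h
    · omega
    · refine three_of_threeB (by norm_num) ?_ (by decide) h (Nat.mul_dvd_mul_left _ hdvd)
      have := Nat.one_lt_pow (show d ≠ 0 by omega) (show 1 < 3 by omega)
      omega

/-- All primes dividing `e` divide `q`. -/
theorem dvd_pow_of_primes {e q : ℕ} (he : e ≠ 0) (hq : q ≠ 0)
    (h : ∀ s : ℕ, s.Prime → s ∣ e → s ∣ q) : e ∣ q ^ e := by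
  rw [← Nat.factorization_le_iff_dvd he (pow_ne_zero _ hq), Nat.factorization_pow]
  intro s
  by_cases hs : e.factorization s = 0
  · rw [hs]; exact Nat.zero_le _
  have hp := Nat.prime_of_mem_primeFactors (Finsupp.mem_support_iff.2 hs)
  have hdvd := Nat.dvd_of_mem_primeFactors (Finsupp.mem_support_iff.2 hs)
  have h1 : 1 ≤ q.factorization s := hp.factorization_pos_of_dvd hq (h s hp hdvd)
  have h2 := Nat.factorization_lt s he
  rw [Finsupp.smul_apply, smul_eq_mul]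
  nlinarith

theorem five_mid {e : ℕ} (he : 10 ≤ e) (he' : e < 32) (hQ : 3 ≤ Q)
    (hr : ∀ s : ℕ, s.Prime → s ∣ e → s ∣ Q - 1) (hne : ¬ (e = 16 ∧ Q = 3))
    (hm : 0 < m) (hm2 : 2 ^ m ≤ Q) (hk : ∃ k, Q = k ^ m) (hd : e ≤ d)
    (hM : M ≤ m * (Q - 1) * e ^ 8) : 4 * M + 1 < Q ^ d := by
  have h4 : 4 * e ^ 8 * m < Q ^ (d - 1) := by
    refine lt_of_lt_of_le ?_ (Nat.pow_le_pow_right (by omega) (show e - 1 ≤ d - 1 by omega))
    by_cases h25 : 25 ≤ Q
    · have hw : ((List.range 32).all fun e => decide (e < 10) ||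
          decide (2 * e ^ 8 < 25 ^ (e - 2))) = true := by decide +kernel
      simp only [List.all_eq_true, List.mem_range, Bool.or_eq_true, decide_eq_true_eq] at hw
      rcases hw e he' with h | h
      · omega
      calc 4 * e ^ 8 * m = 2 * e ^ 8 * (2 * m) := by ring
        _ ≤ 2 * e ^ 8 * Q := Nat.mul_le_mul_left _ ((two_mul_le_two_pow m).trans hm2)
        _ < 25 ^ (e - 2) * Q := Nat.mul_lt_mul_of_pos_right h (by omega)
        _ ≤ Q ^ (e - 2) * Q := Nat.mul_le_mul_right _ (Nat.pow_le_pow_left h25 _)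
        _ = Q ^ (e - 1) := by rw [← pow_succ]; congr 1; omega
    · have hw : win 25 10 32 (fun Q e m => decide ((Q - 1) ^ e % e ≠ 0) || !rootB Q m ||
          (e == 16 && Q == 3) || decide (4 * e ^ 8 * m < Q ^ (e - 1))) = true := by decide +kernel
      have h8 : m < 8 := by
        have : 2 ^ m < 2 ^ 8 := lt_of_le_of_lt hm2 (by omega)
        exact (Nat.pow_lt_pow_iff_right (by norm_num)).1 this
      have := win_spec hw hQ (by omega) he he' hm h8 hm2
      simp only [Nat.mod_eq_zero_of_dvd (dvd_pow_of_primes (by omega) (by omega) hr),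
        rootB_of hm hk, Bool.not_true, Bool.or_eq_true, Bool.and_eq_true, beq_iff_eq,
        decide_eq_true_eq, ne_eq, not_true, false_or, Bool.false_eq_true] at this
      exact this.resolve_left hne
  have := key hQ (by omega) h4
  have : m * (Q - 1) * (4 * e ^ 8) = 4 * (m * (Q - 1) * e ^ 8) := by ring
  omega

theorem two_mul_mul_le {n : ℕ} (hm2 : 2 ^ m ≤ Q) (hM : M ≤ m * (Q - 1) * n) : 2 * M ≤ Q ^ 2 * n := by
  calc 2 * M ≤ 2 * (m * (Q - 1) * n) := Nat.mul_le_mul_left _ hM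
    _ = (2 * m) * (Q - 1) * n := by ring
    _ ≤ Q * Q * n := Nat.mul_le_mul_right _
        (Nat.mul_le_mul ((two_mul_le_two_pow m).trans hm2) (Nat.sub_le _ _))
    _ = Q ^ 2 * n := by ring

theorem step_lt {a b c f r : ℕ} (h : a ≤ f * b) (h' : f * (c * b) < r) : c * a < r := by
  rw [Nat.mul_left_comm f c b] at h'
  exact lt_of_le_of_lt (Nat.mul_le_mul_left c h) h'

theorem ineq_good {q : ℕ} (hq : 8 ≤ q) : ∀ e, 32 ≤ e → 7 * e ^ 16 < q ^ (e - 4) := by
  intro e he
  induction e, he using Nat.le_induction with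
  | base => exact lt_of_lt_of_le (by norm_num) (Nat.pow_le_pow_left hq _)
  | succ n hn ih =>
    have h1 : 32 ^ 16 * (n + 1) ^ 16 ≤ 33 ^ 16 * n ^ 16 := by
      rw [← mul_pow, ← mul_pow]; exact Nat.pow_le_pow_left (by omega) _
    have h2 : (n + 1) ^ 16 ≤ 8 * n ^ 16 := by
      generalize (n + 1) ^ 16 = x at h1 ⊢
      generalize n ^ 16 = y at h1 ⊢
      norm_num at h1
      omega
    rw [show n + 1 - 4 = n - 4 + 1 by omega, pow_succ q]
    have h3 : 8 * (7 * n ^ 16) < q ^ (n - 4) * q :=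
      calc 8 * (7 * n ^ 16) ≤ q * (7 * n ^ 16) := Nat.mul_le_mul_right _ hq
        _ < q * q ^ (n - 4) := Nat.mul_lt_mul_of_pos_left ih (by omega)
        _ = q ^ (n - 4) * q := mul_comm _ _
    exact step_lt h2 h3

theorem ineq_regular {q : ℕ} (hq : 3 ≤ q) : ∀ e, 256 ≤ e → 40 * e ^ 32 < q ^ (e - 8) := by
  intro e he
  induction e, he using Nat.le_induction with
  | base => exact lt_of_lt_of_le (by norm_num) (Nat.pow_le_pow_left hq _)
  | succ n hn ih =>
    have h1 : 256 ^ 32 * (n + 1) ^ 32 ≤ 257 ^ 32 * n ^ 32 := by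
      rw [← mul_pow, ← mul_pow]; exact Nat.pow_le_pow_left (by omega) _
    have h2 : (n + 1) ^ 32 ≤ 3 * n ^ 32 := by
      generalize (n + 1) ^ 32 = x at h1 ⊢
      generalize n ^ 32 = y at h1 ⊢
      norm_num at h1
      omega
    rw [show n + 1 - 8 = n - 8 + 1 by omega, pow_succ q]
    have h3 : 3 * (40 * n ^ 32) < q ^ (n - 8) * q :=
      calc 3 * (40 * n ^ 32) ≤ q * (40 * n ^ 32) := Nat.mul_le_mul_right _ hq
        _ < q * q ^ (n - 8) := Nat.mul_lt_mul_of_pos_left ih (by omega)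
        _ = q ^ (n - 8) * q := mul_comm _ _
    exact step_lt h2 h3

theorem five_linear {e : ℕ} (he : 32 ≤ e) (hQ : 3 ≤ Q) (hd : e ≤ d)
    (hM : M ≤ 1 * (Q - 1) * e ^ 8) : 4 * M + 1 < Q ^ d := by
  have h1 : ∀ e, 32 ≤ e → 4 * e ^ 8 < 3 ^ (e - 1) := by
    intro e he
    induction e, he using Nat.le_induction with
    | base => norm_num
    | succ n hn ih =>
      have h1 : 32 ^ 8 * (n + 1) ^ 8 ≤ 33 ^ 8 * n ^ 8 := by
        rw [← mul_pow, ← mul_pow]; exact Nat.pow_le_pow_left (by omega) _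
      generalize (n + 1) ^ 8 = x at h1 ⊢
      generalize n ^ 8 = y at h1 ih ⊢
      norm_num at h1
      rw [show n + 1 - 1 = n - 1 + 1 by omega, pow_succ]
      omega
  have h2 : 4 * e ^ 8 * 1 < Q ^ (d - 1) := by
    rw [mul_one]
    exact lt_of_lt_of_le (h1 e he) ((Nat.pow_le_pow_left hQ _).trans
      (Nat.pow_le_pow_right (by omega) (by omega)))
  have := key hQ (by omega) h2
  have : 1 * (Q - 1) * (4 * e ^ 8) = 4 * (1 * (Q - 1) * e ^ 8) := by ring
  omega

theorem five_good {e : ℕ} (he : 32 ≤ e) (he' : e < 256) (hQ : 3 ≤ Q)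
    (hr : ∀ s : ℕ, s.Prime → s ∣ e → s ∣ Q - 1)
    (hm : 1 < m) (hm2 : 2 ^ m ≤ Q) (hk : ∃ k, Q = k ^ m) (hd : e ≤ d)
    (hM : M ≤ m * (Q - 1) * e ^ 8) : 25 * M ^ 2 < Q ^ d := by
  have h7 : 7 * e ^ 16 < Q ^ (e - 4) := by
    by_cases h8 : 8 ≤ Q
    · exact ineq_good h8 e he
    have hm3 : m < 3 := by
      have : 2 ^ m < 2 ^ 3 := lt_of_le_of_lt hm2 (by omega)
      exact (Nat.pow_lt_pow_iff_right (by norm_num)).1 this
    obtain rfl : m = 2 := by omega
    have hQ4 : Q = 4 := by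
      obtain ⟨k, rfl⟩ := hk
      have : k < 3 := by nlinarith
      interval_cases k <;> omega
    subst hQ4
    have hw : ((List.range 256).all fun e => decide (e < 32) || decide (3 ^ e % e ≠ 0) ||
        decide (7 * e ^ 16 < 4 ^ (e - 4))) = true := by decide +kernel
    simp only [List.all_eq_true, List.mem_range, Bool.or_eq_true, decide_eq_true_eq] at hw
    rcases hw e he' with (h | h) | h
    · omega
    · exact absurd (Nat.mod_eq_zero_of_dvd (dvd_pow_of_primes (by omega) (by omega) hr)) h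
    · exact h
  refine lt_of_lt_of_le ?_ (Nat.pow_le_pow_right (by omega) hd)
  have h2 : (2 * M) ^ 2 ≤ (Q ^ 2 * e ^ 8) ^ 2 := Nat.pow_le_pow_left (two_mul_mul_le hm2 hM) _
  have h3 : Q ^ 4 * (7 * e ^ 16) < Q ^ 4 * Q ^ (e - 4) :=
    Nat.mul_lt_mul_of_pos_left h7 (pow_pos (by omega) _)
  rw [← pow_add, show 4 + (e - 4) = e by omega] at h3
  have h4 : (Q ^ 2 * e ^ 8) ^ 2 = Q ^ 4 * e ^ 16 := by ring
  have h5 : (2 * M) ^ 2 = 4 * M ^ 2 := by ring
  have h6 : Q ^ 4 * (7 * e ^ 16) = 7 * (Q ^ 4 * e ^ 16) := by ring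
  omega

theorem five_regular {e : ℕ} (he : 256 ≤ e) (hQ : 3 ≤ Q) (hm2 : 2 ^ m ≤ Q) (hd : e ≤ d)
    (hM : M ≤ m * (Q - 1) * e ^ 8) : 625 * M ^ 4 < Q ^ d := by
  refine lt_of_lt_of_le ?_ (Nat.pow_le_pow_right (by omega) hd)
  have h2 : (2 * M) ^ 4 ≤ (Q ^ 2 * e ^ 8) ^ 4 := Nat.pow_le_pow_left (two_mul_mul_le hm2 hM) _
  have h3 : Q ^ 8 * (40 * e ^ 32) < Q ^ 8 * Q ^ (e - 8) :=
    Nat.mul_lt_mul_of_pos_left (ineq_regular hQ e he) (pow_pos (by omega) _)
  rw [← pow_add, show 8 + (e - 8) = e by omega] at h3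
  have h4 : (Q ^ 2 * e ^ 8) ^ 4 = Q ^ 8 * e ^ 32 := by ring
  have h5 : (2 * M) ^ 4 = 16 * M ^ 4 := by ring
  have h6 : Q ^ 8 * (40 * e ^ 32) = 40 * (Q ^ 8 * e ^ 32) := by ring
  omega

/-- The bad set is small: a square bound on fixed points. -/
theorem count_good {g v F : ℕ} (h : 25 * g ^ 2 < v) (hv : 36 ≤ v) (hF : F ^ 2 ≤ v) :
    g * F + 4 * g + 1 < v := by
  obtain ⟨r, hr, hr'⟩ : ∃ r, r * r ≤ v ∧ v < (r + 1) * (r + 1) :=
    ⟨Nat.sqrt v, Nat.sqrt_le v, Nat.lt_succ_sqrt v⟩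
  have h1 : 5 * g ≤ r := by nlinarith
  have h2 : F ≤ r := by nlinarith
  have h3 : 5 ≤ r := by nlinarith
  nlinarith

/-- The bad set is small: a fourth power bound on fixed points. -/
theorem count_regular {g v F : ℕ} (h : 625 * g ^ 4 < v) (hg : 0 < g) (hF2 : 2 ≤ F)
    (hF : F ^ 4 ≤ v ^ 3) : g * F + 4 * g + 1 < v := by
  have h1 : (5 * g * F) ^ 4 < v ^ 4 := by
    calc (5 * g * F) ^ 4 = 625 * g ^ 4 * F ^ 4 := by ring
      _ ≤ 625 * g ^ 4 * v ^ 3 := Nat.mul_le_mul_left _ hF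
      _ < v * v ^ 3 := Nat.mul_lt_mul_of_pos_right h (pow_pos (by omega) _)
      _ = v ^ 4 := by ring
  have h2 : 5 * g * F < v := lt_of_pow_lt_pow_left₀ 4 (Nat.zero_le _) h1
  have h3 : g * 2 ≤ g * F := Nat.mul_le_mul_left _ hF2
  have h4 : 5 * g * F = 5 * (g * F) := by ring
  omega

end H27.Orbit.Num
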