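import Cfsg.Agent.H27.Orbit.Count
import Cfsg.Agent.H27.Orbit.Numeric
import Cfsg.Agent.H27.Orbit.SectExists
import Cfsg.Agent.H89.Orbit.Bounds

/-!
Primitive solvable linear groups have five, three, or two inequivalent vectors with small
stabilisers.
-/

set_option autoImplicit false
set_option linter.style.haveILetI false
set_option linter.unusedSectionVars false

namespace H27.Orbit

open MulAction

theorem dlTable' : DlTable := H89.Orbit.dlTable hasSect

section Five

variable {G V : Type} [Group G] [Finite G] [AddCommGroup V] [Finite V] [DistribMulAction G V]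

theorem spread_five_of_ne {d : ℕ} (hs : ∀ v : V, v ≠ 0 → SmallStab G V d v)
    (h : 4 * Nat.card G + 1 < Nat.card V) : Spread 5 d G V :=
  spread_of_count {0} hs 5 (ncard_singleton_add 4 h)

theorem spread_three_zero [Nontrivial V] {d M : ℕ} (h0 : SmallStab G V d (0 : V))
    (hs : ∀ v : V, v ≠ 0 → SmallStab G V d v) (hM : Nat.card G ∣ M)
    (h : ¬ (Nat.card V - 1) ∣ M) : Spread 3 d G V := by
  obtain ⟨v, w, hv, hw, hvw⟩ := two_nonzero hM h
  have hz : ∀ u : V, u ≠ 0 → u ∉ orbit G (0 : V) := by
    rintro u hu ⟨g, rfl⟩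
    exact hu (smul_zero g)
  exact spread_three_of h0 (hs v hv) (hs w hw) (hz v hv) (hz w hw) hvw

theorem spread_three_nonzero [Nontrivial V] {d M : ℕ}
    (hs : ∀ v : V, v ≠ 0 → SmallStab G V d v) (hM : Nat.card G ∣ M)
    (h : Num.Three (Nat.card V - 1) M) : Spread 3 d G V := by
  obtain ⟨u, v, w, hu, hv, hw, h1, h2, h3⟩ := three_nonzero hM h.1 h.2
  exact spread_three_of (hs u hu) (hs v hv) (hs w hw) h1 h2 h3

theorem spread_two_zero [Nontrivial V] {d : ℕ} (h0 : SmallStab G V d (0 : V))
    (hs : ∀ v : V, v ≠ 0 → SmallStab G V d v) : Spread 2 d G V := by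
  obtain ⟨v, hv⟩ := exists_ne (0 : V)
  refine spread_two_of h0 (hs v hv) ?_
  rintro ⟨g, hg⟩
  exact hv (hg.symm.trans (smul_zero g))

end Five

namespace SectData

variable {G V : Type} [Group G] [Finite G] [AddCommGroup V] [Finite V] [DistribMulAction G V]
  (S : SectData G V)

theorem card_V : Nat.card V = Nat.card S.K ^ Module.finrank S.K V :=
  Module.natCard_eq_pow_finrank

theorem e_pos : 1 ≤ S.e := by
  refine Nat.one_le_iff_ne_zero.2 fun h => ?_
  have h1 := S.card_N
  rw [h] at h1
  exact Nat.card_pos.ne' (h1.trans (by norm_num))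

theorem mod_eq_one {s : ℕ} (hs : s.Prime) (hd : s ∣ S.e) : Nat.card S.K % s = 1 := by
  obtain ⟨c, hc⟩ := S.root s hs hd
  have h2 : 1 < Nat.card S.K := Finite.one_lt_card
  rw [show Nat.card S.K = 1 + s * c by omega, Nat.add_mul_mod_self_left,
    Nat.mod_eq_of_lt hs.one_lt]

theorem three_le_K (he : 2 ≤ S.e) : 3 ≤ Nat.card S.K := by
  obtain ⟨s, hs, hd⟩ := Nat.exists_prime_and_dvd (show S.e ≠ 1 by omega)
  have h2 : 1 < Nat.card S.K := Finite.one_lt_card
  have := Nat.le_of_dvd (by omega) (S.root s hs hd)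
  have := hs.two_le
  omega

theorem m_eq_one (hQ : Nat.card S.K = 3) : S.m = 1 := by
  have h := S.two_pow_m_le
  have h1 := S.m_pos
  rw [hQ] at h
  by_contra hne
  have : 2 ^ 2 ≤ 2 ^ S.m := Nat.pow_le_pow_right (by norm_num) (by omega)
  omega

/-- The bound on the group order with an explicit bound on the section. -/
theorem card_dvd_of_dvd {Y : ℕ} (h : Nat.card S.actRange ∣ Y) :
    Nat.card G ∣ S.m * (Nat.card S.K - 1) * (S.e ^ 2 * Y) := by
  have h1 := S.card_dvd
  rw [mul_assoc (S.m * (Nat.card S.K - 1))] at h1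
  exact h1.trans (Nat.mul_dvd_mul_left _ (Nat.mul_dvd_mul_left _ h))

theorem card_le [Group.IsSolvable G] :
    Nat.card G ≤ S.m * (Nat.card S.K - 1) * S.e ^ 8 := by
  haveI := S.isSolvable_actRange
  have h1 := H89.Orbit.card_le_cube (G := ↥S.actRange) inferInstance S.cr_actRange S.card_N
  have h2 : 1 < Nat.card S.K := Finite.one_lt_card
  have hpos : 0 < S.m * (Nat.card S.K - 1) * (S.e ^ 2 * Nat.card S.actRange) :=
    Nat.mul_pos (Nat.mul_pos S.m_pos (by omega))
      (Nat.mul_pos (pow_pos S.e_pos _) Nat.card_pos)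
  refine (Nat.le_of_dvd hpos (S.card_dvd_of_dvd dvd_rfl)).trans ?_
  calc S.m * (Nat.card S.K - 1) * (S.e ^ 2 * Nat.card S.actRange)
      ≤ S.m * (Nat.card S.K - 1) * (S.e ^ 2 * (S.e ^ 2) ^ 3) := by gcongr
    _ = _ := by ring

theorem actRange_dvd_GL {r a : ℕ} (hr : r.Prime) (he : S.e = r ^ a) :
    Nat.card S.actRange ∣ ∏ i : Fin (2 * a), (r ^ (2 * a) - r ^ (i : ℕ)) :=
  H89.Orbit.card_dvd_GL_e S.cr_actRange S.card_N hr he

theorem dlActs_of_e_one (he : S.e = 1) : DlActs G S.N 0 := fun g _ x => by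
  have h := S.card_N
  rw [he, one_pow, Nat.card_eq_one_iff_unique] at h
  exact h.1.elim _ _

variable [Nontrivial V] [Group.IsSolvable G] [FaithfulSMul G V]

/-- Sections of order at most `4`. -/
theorem good_le_two (he : S.e ≤ 2) : Spread 2 5 G V := by
  have hx : DlActs G S.N 2 := by
    by_cases h1 : S.e = 1
    · intro g hg x
      refine S.dlActs_of_e_one h1 g ?_ x
      rw [derivedSeries_zero]; exact Subgroup.mem_top g
    · exact H89.Orbit.dlActs_two dlTable' inferInstance S.cr S.card_N (by have := S.e_pos; omega)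
  exact spread_two_zero (S.smallStab_zero hx le_rfl) fun v hv => S.smallStab_of_ne hx hv (by norm_num)

theorem good_four_three (he : S.e = 4) (hQ : Nat.card S.K = 3) : Spread 2 5 G V := by
  have hx := H89.Orbit.dlActs_four dlTable' inferInstance S.cr S.card_N he
  exact spread_two_zero (S.smallStab_zero_linear (S.linear_of_m (S.m_eq_one hQ)) hx le_rfl)
    fun v hv => S.smallStab_of_ne hx hv (by norm_num)

theorem good_le_seven (he3 : 3 ≤ S.e) (he7 : S.e ≤ 7)
    (hne : ¬ (S.e = 4 ∧ Nat.card S.K = 3 ∧ Module.finrank S.K V = 4)) : Spread 3 7 G V := by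
  have hx := H89.Orbit.dlActs_small dlTable' inferInstance S.cr S.card_N he7
  have hQ := S.three_le_K (by omega)
  have hm := S.m_pos
  have hm2 := S.two_pow_m_le
  have hk := S.exists_root_m
  have hd := S.e_le
  refine spread_three_zero (S.smallStab_zero hx le_rfl)
    (fun v hv => S.smallStab_of_ne hx hv (by norm_num)) dvd_rfl ?_
  rw [S.card_V]
  obtain he | he | he | he | he : S.e = 3 ∨ S.e = 4 ∨ S.e = 5 ∨ S.e = 6 ∨ S.e = 7 := by omega
  all_goals rw [he] at hd
  · have h := S.card_dvd_of_dvd (S.actRange_dvd_GL (r := 3) (a := 1) Nat.prime_three (by rw [he]; rfl))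
    rw [he] at h
    exact Num.two_three hQ (S.mod_eq_one Nat.prime_three (by rw [he])) hm hm2 hd
      (by simpa [Fin.prod_univ_succ] using h)
  · have h := S.card_dvd_of_dvd (S.actRange_dvd_GL (r := 2) (a := 2) Nat.prime_two (by rw [he]; rfl))
    rw [he] at h
    exact Num.two_four hQ (S.mod_eq_one Nat.prime_two (by rw [he]; norm_num)) hm hm2 hd
      (fun hh => hne ⟨he, hh⟩) (by simpa [Fin.prod_univ_succ] using h)
  · have h := S.card_dvd_of_dvd (S.actRange_dvd_GL (r := 5) (a := 1) Nat.prime_five (by rw [he]; rfl))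
    rw [he] at h
    exact Num.two_five hQ (S.mod_eq_one Nat.prime_five (by rw [he])) hm hm2 hk hd
      (by simpa [Fin.prod_univ_succ] using h)
  · have h2 := S.mod_eq_one Nat.prime_two (by rw [he]; norm_num)
    have h3 := S.mod_eq_one Nat.prime_three (by rw [he]; norm_num)
    have hY := H89.Orbit.card_le_six S.cr_actRange S.card_N he
    have hle := Nat.le_of_dvd (Nat.mul_pos (Nat.mul_pos hm (by omega))
      (Nat.mul_pos (pow_pos S.e_pos _) Nat.card_pos)) (S.card_dvd_of_dvd dvd_rfl)
    refine Num.two_six hQ (by omega) hm hm2 hk hd Nat.card_pos (hle.trans ?_)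
    refine Nat.mul_le_mul_left _ ?_
    rw [he]; omega
  · have h := S.card_dvd_of_dvd (S.actRange_dvd_GL (r := 7) (a := 1) (by norm_num) (by rw [he]; rfl))
    rw [he] at h
    exact Num.two_seven hQ (S.mod_eq_one (by norm_num) (by rw [he])) hm hm2 hk hd
      (by simpa [Fin.prod_univ_succ] using h)

theorem good_eight (he : S.e = 8) : Spread 5 9 G V ∨ Spread 3 7 G V := by
  have hQ := S.three_le_K (by omega)
  have hr := S.mod_eq_one Nat.prime_two (by rw [he]; norm_num)
  have hm := S.m_pos
  have hm2 := S.two_pow_m_le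
  have hk := S.exists_root_m
  have hd : 8 ≤ Module.finrank S.K V := he ▸ S.e_le
  haveI := S.isSolvable_actRange
  have hY0 : 0 < Nat.card S.actRange := Nat.card_pos
  have hG : Nat.card G ∣ S.m * (Nat.card S.K - 1) * (64 * Nat.card S.actRange) := by
    have := S.card_dvd_of_dvd dvd_rfl
    rwa [he] at this
  rcases H89.Orbit.eight_alt dlTable' inferInstance S.cr_actRange S.card_N he with h5 | h2592
  · have hx := S.dlActs_of_actRange h5
    have hdvd : 64 * Nat.card S.actRange ∣ Num.fprod Num.fac8 := by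
      have := Nat.mul_dvd_mul_left 64
        (S.actRange_dvd_GL (r := 2) (a := 3) Nat.prime_two (by rw [he]; rfl))
      refine this.trans ?_
      norm_num [Fin.prod_univ_succ, Num.fprod, Num.fac8]
    refine Or.inr ?_
    by_cases hne : Nat.card S.K = 3 ∧ (Module.finrank S.K V = 8 ∨ Module.finrank S.K V = 12)
    · have hm1 := S.m_eq_one hne.1
      refine spread_three_zero (S.smallStab_zero_linear (S.linear_of_m hm1) hx le_rfl)
        (fun v hv => S.smallStab_of_ne hx hv le_rfl) dvd_rfl ?_
      rw [S.card_V, hne.1]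
      rw [hm1, hne.1] at hG
      exact Num.two_eight hne.2 (hG.trans (Nat.mul_dvd_mul_left _ hdvd))
    · have hle : Nat.card S.actRange ≤ 262144 :=
        (H89.Orbit.card_le_cube inferInstance S.cr_actRange S.card_N).trans_eq (by rw [he]; norm_num)
      refine spread_three_nonzero (fun v hv => S.smallStab_of_ne hx hv le_rfl) hG ?_
      rw [S.card_V]
      exact Num.three_eight hQ hr hm hm2 hk hd hne hY0 hle hdvd
  · have hx : DlActs G S.N 6 :=
      dlTable'.twoSix G S.N inferInstance S.cr (by rw [S.card_N, he]; norm_num)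
    by_cases hm1 : S.m = 1
    · refine Or.inr (spread_three_nonzero (fun v hv => S.smallStab_inner hx hv
        (S.stab_le_of_linear (S.linear_of_m hm1) v) le_rfl) hG ?_)
      rw [S.card_V, hm1]
      exact Num.three_eight' hQ hr hd hY0 h2592
    · refine Or.inl (spread_five_of_ne (fun v hv => S.smallStab_of_ne hx hv (by norm_num)) ?_)
      rw [S.card_V]
      have h1 := Num.five_eight hr (show 1 < S.m by omega) hm2 hk hd
        (Nat.le_of_dvd (by norm_num) h2592)
      have h2 := Nat.le_of_dvd (Nat.mul_pos (Nat.mul_pos hm (by omega)) (by omega)) hG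
      omega

theorem good_nine (he : S.e = 9) : Spread 3 7 G V := by
  have hQ := S.three_le_K (by omega)
  have hr := S.mod_eq_one Nat.prime_three (by rw [he]; norm_num)
  have hd : 9 ≤ Module.finrank S.K V := he ▸ S.e_le
  haveI := S.isSolvable_actRange
  have hx := H89.Orbit.dlActs_nine_e dlTable' inferInstance S.cr S.card_N he
  have hG : Nat.card G ∣ S.m * (Nat.card S.K - 1) * (81 * Nat.card S.actRange) := by
    have := S.card_dvd_of_dvd dvd_rfl
    rwa [he] at this
  have hdvd : 81 * Nat.card S.actRange ∣ Num.fprod Num.fac9 := by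
    have := Nat.mul_dvd_mul_left 81
      (S.actRange_dvd_GL (r := 3) (a := 2) Nat.prime_three (by rw [he]; rfl))
    refine this.trans ?_
    norm_num [Fin.prod_univ_succ, Num.fprod, Num.fac9]
  have hle : Nat.card S.actRange ≤ 531441 :=
    (H89.Orbit.card_le_cube inferInstance S.cr_actRange S.card_N).trans_eq (by rw [he]; norm_num)
  refine spread_three_nonzero (fun v hv => S.smallStab_of_ne hx hv le_rfl) hG ?_
  rw [S.card_V]
  exact Num.three_nine hQ hr S.m_pos S.two_pow_m_le S.exists_root_m hd Nat.card_pos hle hdvd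

theorem good_sixteen (he : S.e = 16) (hQ : Nat.card S.K = 3) : Spread 3 7 G V := by
  have hd : 16 ≤ Module.finrank S.K V := he ▸ S.e_le
  haveI := S.isSolvable_actRange
  have hx := H89.Orbit.dlActs_sixteen dlTable' inferInstance S.cr S.card_N he
  have hm1 := S.m_eq_one hQ
  have hG : Nat.card G ∣ 1 * (3 - 1) * (256 * Nat.card S.actRange) := by
    have := S.card_dvd_of_dvd dvd_rfl
    rwa [he, hQ, hm1] at this
  have hdvd : 256 * Nat.card S.actRange ∣ Num.fprod Num.fac16 := by
    have := Nat.mul_dvd_mul_left 256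
      (S.actRange_dvd_GL (r := 2) (a := 4) Nat.prime_two (by rw [he]; rfl))
    refine this.trans ?_
    norm_num [Fin.prod_univ_succ, Num.fprod, Num.fac16]
  have hle : Nat.card S.actRange ≤ 16777216 :=
    (H89.Orbit.card_le_cube inferInstance S.cr_actRange S.card_N).trans_eq (by rw [he]; norm_num)
  refine spread_three_nonzero (fun v hv => S.smallStab_inner hx hv
    (S.stab_le_of_linear (S.linear_of_m hm1) v) le_rfl) hG ?_
  rw [S.card_V, hQ]
  exact Num.three_sixteen hd Nat.card_pos hle hdvd

theorem good_le_31 (he : 10 ≤ S.e) (he' : S.e < 32) (hne : ¬ (S.e = 16 ∧ Nat.card S.K = 3)) :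
    Spread 5 9 G V := by
  have hx := H89.Orbit.dlActs_le_31 dlTable' inferInstance S.cr S.card_N S.e_pos (by omega)
  refine spread_five_of_ne (fun v hv => S.smallStab_of_ne hx hv le_rfl) ?_
  rw [S.card_V]
  exact Num.five_mid he he' (S.three_le_K (by omega)) S.root hne S.m_pos S.two_pow_m_le
    S.exists_root_m S.e_le S.card_le

theorem good_lt_256 (he : 32 ≤ S.e) (he' : S.e < 256) : Spread 5 9 G V := by
  have hx := H89.Orbit.dlActs_lt_256 dlTable' inferInstance S.cr S.card_N S.e_pos he'
  have hQ := S.three_le_K (by omega)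
  have hG := S.card_le
  by_cases hm1 : S.m = 1
  · refine spread_five_of_ne (fun v hv => S.smallStab_inner hx hv
      (S.stab_le_of_linear (S.linear_of_m hm1) v) le_rfl) ?_
    rw [S.card_V]
    rw [hm1] at hG
    exact Num.five_linear he hQ S.e_le hG
  have h25 := Num.five_good he he' hQ S.root (show 1 < S.m by have := S.m_pos; omega)
    S.two_pow_m_le S.exists_root_m S.e_le hG
  rw [← S.card_V] at h25
  set s : G → Set V := fun g => {v | g ∉ S.σ.ker ∧ g • v = v}
  refine spread_of_count ({0} ∪ ⋃ g, s g) (fun v hv => ?_) 5 ?_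
  · simp only [Set.mem_union, Set.mem_singleton_iff, Set.mem_iUnion, not_or, not_exists] at hv
    refine S.smallStab_inner hx hv.1 (fun g hg => ?_) le_rfl
    by_contra hgk
    exact hv.2 g ⟨hgk, hg⟩
  · have hF : ∀ g, (s g).ncard ≤ Nat.sqrt (Nat.card V) := fun g => by
      by_cases hg : g ∈ S.σ.ker
      · rw [show s g = ∅ from Set.eq_empty_iff_forall_notMem.2 fun v hv => hv.1 hg, Set.ncard_empty]
        exact Nat.zero_le _
      · refine Nat.le_sqrt.2 ?_
        have h1 : (s g).ncard ≤ Nat.card {v : V // g • v = v} := by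
          rw [← Nat.card_coe_set_eq]
          exact Nat.card_le_card_of_injective
            (fun v : ↥(s g) => (⟨v.1, v.2.2⟩ : {v : V // g • v = v})) fun a b h =>
            Subtype.ext (congrArg (fun z : {v : V // g • v = v} => z.1) h)
        calc (s g).ncard * (s g).ncard
            ≤ Nat.card {v : V // g • v = v} * Nat.card {v : V // g • v = v} := Nat.mul_le_mul h1 h1
          _ = Nat.card {v : V // g • v = v} ^ 2 := (sq _).symm
          _ ≤ Nat.card V := S.fix_out g hg
    haveI := Fintype.ofFinite G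
    have h1 : (({0} : Set V) ∪ ⋃ g, s g).ncard ≤ 1 + Nat.card G * Nat.sqrt (Nat.card V) := by
      refine (Set.ncard_union_le _ _).trans (add_le_add (Set.ncard_singleton _).le ?_)
      refine (Set.ncard_iUnion_le_of_fintype _).trans ((Finset.sum_le_sum fun g _ => hF g).trans ?_)
      simp [Nat.card_eq_fintype_card]
    have h36 : 36 ≤ Nat.card V := by
      rw [S.card_V]
      exact le_trans (by norm_num) ((Nat.pow_le_pow_left hQ 32).trans
        (Nat.pow_le_pow_right (by omega) (he.trans S.e_le)))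
    have h2 := Num.count_good h25 h36 (Nat.sqrt_le' (Nat.card V))
    omega

theorem good_ge_256 (he : 256 ≤ S.e) : Spread 5 9 G V := by
  have hQ := S.three_le_K (by omega)
  have h625 := Num.five_regular he hQ S.two_pow_m_le S.e_le S.card_le
  rw [← S.card_V] at h625
  set F := Nat.sqrt (Nat.sqrt (Nat.card V ^ 3)) with hFdef
  have hle4 : ∀ a, a ^ 4 ≤ Nat.card V ^ 3 → a ≤ F := fun a ha => by
    refine Nat.le_sqrt.2 (Nat.le_sqrt.2 ?_)
    calc a * a * (a * a) = a ^ 4 := by ring
      _ ≤ _ := ha
  have hF4 : F ^ 4 ≤ Nat.card V ^ 3 := by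
    calc F ^ 4 = (F * F) * (F * F) := by ring
      _ ≤ Nat.sqrt (Nat.card V ^ 3) * Nat.sqrt (Nat.card V ^ 3) :=
        Nat.mul_le_mul (Nat.sqrt_le _) (Nat.sqrt_le _)
      _ ≤ _ := Nat.sqrt_le _
  have hV3 : 3 ≤ Nat.card V := by
    rw [S.card_V]
    exact hQ.trans (Nat.le_self_pow (by have := S.e_le; omega) _)
  have hF2 : 2 ≤ F := hle4 2 (le_trans (by norm_num) (Nat.pow_le_pow_left hV3 3))
  set s : G → Set V := fun g => {v | g ≠ 1 ∧ v ≠ 0 ∧ g • v = v}
  refine spread_of_count ({0} ∪ ⋃ g, s g) (fun v hv => ?_) 5 ?_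
  · simp only [Set.mem_union, Set.mem_singleton_iff, Set.mem_iUnion, not_or, not_exists] at hv
    refine smallStab_of_le (a := 0) ?_ (Nat.zero_le _)
    rw [dIn_zero, eq_bot_iff]
    intro g hg
    rw [Subgroup.mem_bot]
    by_contra hg1
    exact hv.2 g ⟨hg1, hv.1, hg⟩
  · have hF : ∀ g, (s g).ncard ≤ F := fun g => by
      have h1 : (s g).ncard ≤ Nat.card {v : V // g • v = v} := by
        rw [← Nat.card_coe_set_eq]
        exact Nat.card_le_card_of_injective
          (fun v : ↥(s g) => (⟨v.1, v.2.2.2⟩ : {v : V // g • v = v})) fun a b h =>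
          Subtype.ext (congrArg (fun z : {v : V // g • v = v} => z.1) h)
      by_cases hA : g ∈ S.A
      · rw [show s g = ∅ from Set.eq_empty_iff_forall_notMem.2 fun v hv =>
          hv.1 (S.eq_one_of_fix hA hv.2.1 hv.2.2), Set.ncard_empty]
        exact Nat.zero_le _
      by_cases hk : g ∈ S.σ.ker
      · exact h1.trans (hle4 _ (S.fix_ker g hk hA))
      · refine h1.trans (hle4 _ ?_)
        calc Nat.card {v : V // g • v = v} ^ 4
            = (Nat.card {v : V // g • v = v} ^ 2) ^ 2 := by ring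
          _ ≤ Nat.card V ^ 2 := Nat.pow_le_pow_left (S.fix_out g hk) 2
          _ ≤ Nat.card V ^ 3 := Nat.pow_le_pow_right (by omega) (by norm_num)
    haveI := Fintype.ofFinite G
    have h1 : (({0} : Set V) ∪ ⋃ g, s g).ncard ≤ 1 + Nat.card G * F := by
      refine (Set.ncard_union_le _ _).trans (add_le_add (Set.ncard_singleton _).le ?_)
      refine (Set.ncard_iUnion_le_of_fintype _).trans ((Finset.sum_le_sum fun g _ => hF g).trans ?_)
      simp [Nat.card_eq_fintype_card]
    have h2 := Num.count_regular h625 Nat.card_pos hF2 hF4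
    omega

end SectData

/-- Primitive solvable linear groups. -/
theorem primLinear : PrimLinear := by
  intro G V _ _ _ _ _ _ hs hirr hprim
  haveI := hs
  haveI := hirr.1
  obtain ⟨S⟩ := hasSect G V hs hirr hprim
  by_cases h1 : S.e ≤ 2
  · exact Or.inr (Or.inr (S.good_le_two h1))
  by_cases h2 : S.e = 4 ∧ Nat.card S.K = 3 ∧ Module.finrank S.K V = 4
  · exact Or.inr (Or.inr (S.good_four_three h2.1 h2.2.1))
  by_cases h3 : S.e ≤ 7
  · exact Or.inr (Or.inl (S.good_le_seven (by omega) h3 h2))
  by_cases h4 : S.e = 8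
  · exact (S.good_eight h4).imp id Or.inl
  by_cases h5 : S.e = 9
  · exact Or.inr (Or.inl (S.good_nine h5))
  by_cases h6 : S.e = 16 ∧ Nat.card S.K = 3
  · exact Or.inr (Or.inl (S.good_sixteen h6.1 h6.2))
  by_cases h7 : S.e < 32
  · exact Or.inl (S.good_le_31 (by omega) h7 h6)
  by_cases h8 : S.e < 256
  · exact Or.inl (S.good_lt_256 (by omega) h8)
  exact Or.inl (S.good_ge_256 (by omega))

end H27.Orbit
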