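import Cfsg.Agent.H27.Orbit.Defs
import Cfsg.Agent.H35.OddBase.Small
import Cfsg.Agent.H35.OddBase.Pairing

/-!
The derived length of `SL(2, 3)` and of groups preserving a pairing on a group of order nine.
-/

set_option autoImplicit false
set_option linter.style.haveILetI false
set_option maxHeartbeats 1000000

namespace H27.Orbit

open H35.OddBase
open scoped commutatorElement

/-- Two by two matrices over the field with three elements. -/
abbrev Q3 : Type := ZMod 3 × ZMod 3 × ZMod 3 × ZMod 3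

/-- The product of two matrices. -/
def qmul (m n : Q3) : Q3 :=
  (m.1 * n.1 + m.2.1 * n.2.2.1, m.1 * n.2.1 + m.2.1 * n.2.2.2,
    m.2.2.1 * n.1 + m.2.2.2 * n.2.2.1, m.2.2.1 * n.2.1 + m.2.2.2 * n.2.2.2)

/-- The adjugate. -/
def qinv (m : Q3) : Q3 := (m.2.2.2, -m.2.1, -m.2.2.1, m.1)

/-- The matrices of determinant one. -/
def slList : Finset Q3 := Finset.univ.filter fun m => m.1 * m.2.2.2 - m.2.1 * m.2.2.1 = 1

/-- The quaternion subgroup. -/
def qList : Finset Q3 :=
  slList.filter fun m => m.1 + m.2.2.2 = 0 ∨ m = (1, 0, 0, 1) ∨ m = (2, 0, 0, 2)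

/-- The centre. -/
def zList : Finset Q3 := {(1, 0, 0, 1), (2, 0, 0, 2)}

/-- The commutator of two matrices of determinant one. -/
def qcomm (m n : Q3) : Q3 := qmul (qmul (qmul m n) (qinv m)) (qinv n)

theorem comm_sl : ∀ m ∈ slList, ∀ n ∈ slList, qcomm m n ∈ qList := by decide +kernel

theorem comm_q : ∀ m ∈ qList, ∀ n ∈ qList, qcomm m n ∈ zList := by decide +kernel

theorem comm_z : ∀ m ∈ zList, ∀ n ∈ zList, qcomm m n ∈ ({(1, 0, 0, 1)} : Finset Q3) := by
  decide +kernel

/-- A map to the matrices of determinant one kills the third derived subgroup. -/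
theorem derived_of_map {H : Type*} [Group H] (f : H → Q3) (hone : f 1 = (1, 0, 0, 1))
    (hmul : ∀ g h, f (g * h) = qmul (f g) (f h)) (hmem : ∀ g, f g ∈ slList) :
    ∀ g ∈ derivedSeries H 3, f g = (1, 0, 0, 1) := by
  have hinv : ∀ g, f g⁻¹ = qinv (f g) := by
    intro g
    have key : ∀ m ∈ slList, ∀ n ∈ slList, qmul m n = (1, 0, 0, 1) → n = qinv m := by decide +kernel
    exact key _ (hmem g) _ (hmem g⁻¹) (by rw [← hmul, mul_inv_cancel, hone])
  have step : ∀ (n : ℕ) (T U : Finset Q3), (∀ g ∈ derivedSeries H n, f g ∈ T) →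
      (∀ m ∈ T, ∀ k ∈ T, qcomm m k ∈ U) → (1, 0, 0, 1) ∈ U →
      (∀ m ∈ U, ∀ k ∈ U, qmul m k ∈ U) → (∀ m ∈ U, qinv m ∈ U) →
      ∀ g ∈ derivedSeries H (n + 1), f g ∈ U := by
    intro n T U hT hTU h1 h2 h3 g hg
    let S : Subgroup H :=
      { carrier := {x | f x ∈ U}
        one_mem' := show f 1 ∈ U by rwa [hone]
        mul_mem' := fun {a b} ha hb => show f (a * b) ∈ U by rw [hmul]; exact h2 _ ha _ hb
        inv_mem' := fun {a} ha => show f a⁻¹ ∈ U by rw [hinv]; exact h3 _ ha }
    have hle : derivedSeries H (n + 1) ≤ S := by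
      rw [derivedSeries_succ, Subgroup.commutator_le]
      intro a ha b hb
      show f ⁅a, b⁆ ∈ U
      rw [commutatorElement_def, hmul, hmul, hmul, hinv, hinv]
      exact hTU _ (hT a ha) _ (hT b hb)
    exact hle hg
  have s1 := step 0 slList qList (fun g _ => hmem g) comm_sl (by decide +kernel) (by decide +kernel)
    (by decide +kernel)
  have s2 := step 1 qList zList s1 comm_q (by decide +kernel) (by decide +kernel) (by decide +kernel)
  have s3 := step 2 zList {(1, 0, 0, 1)} s2 comm_z (by decide +kernel) (by decide +kernel)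
    (by decide +kernel)
  exact fun g hg => Finset.mem_singleton.1 (s3 g hg)

/-- Groups preserving a non-degenerate pairing on a group of order nine. -/
theorem dlActs_nine {H N A : Type*} [Group H] [CommGroup N] [CommGroup A] [Finite N]
    [MulDistribMulAction H N] (P : AltPairing N A) (hN : Nat.card N = 9) (hexp : ∀ x : N, x ^ 3 = 1)
    (hinv : ∀ (g : H) (x y : N), P.β (g • x) (g • y) = P.β x y) : DlActs H N 3 := by
  classical
  haveI := Fintype.ofFinite N
  have red : ∀ (z : A) (a : ℕ), z ^ 3 = 1 → z ^ a = z ^ ((a : ZMod 3)).val := by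
    intro z a hz
    rw [ZMod.val_natCast]
    conv_lhs => rw [← Nat.mod_add_div a 3, pow_add, pow_mul, hz, one_pow, mul_one]
  have redN : ∀ (z : N) (a : ℕ), z ^ a = z ^ ((a : ZMod 3)).val := by
    intro z a
    rw [ZMod.val_natCast]
    conv_lhs => rw [← Nat.mod_add_div a 3, pow_add, pow_mul, hexp, one_pow, mul_one]
  obtain ⟨x, hx⟩ : ∃ x : N, x ≠ 1 := by
    by_contra h
    push Not at h
    have : Nat.card N = 1 := Nat.card_eq_one_iff_unique.2 ⟨⟨fun a b => by rw [h a, h b]⟩, ⟨1⟩⟩
    omega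
  obtain ⟨y, hy⟩ : ∃ y, P.β x y ≠ 1 := by
    by_contra h
    push Not at h
    exact hx (P.nondeg x h)
  set c := P.β x y with hc
  have hc3 : c ^ 3 = 1 := (P.β_pow_eq_one_iff x 3).2 (hexp x) y
  have hyx : P.β y x = c ^ 2 := by
    have h := P.antisymm x y
    rw [← hc] at h
    calc P.β y x = c ^ 3 * P.β y x := by rw [hc3, one_mul]
      _ = c ^ 2 * (c * P.β y x) := by rw [pow_succ, mul_assoc]
      _ = c ^ 2 := by rw [h, mul_one]
  let pr : ZMod 3 × ZMod 3 → N := fun ab => x ^ ab.1.val * y ^ ab.2.val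
  have hβ : ∀ a b a' b' : ZMod 3,
      P.β (pr (a, b)) (pr (a', b')) = c ^ (a * b' - b * a' : ZMod 3).val := by
    intro a b a' b'
    simp only [pr, map_mul, map_pow, MonoidHom.mul_apply, MonoidHom.pow_apply, P.alt, one_pow, one_mul,
      mul_one, ← hc, hyx, ← pow_mul, ← pow_add]
    rw [red c _ hc3]
    congr 2
    push_cast
    rw [ZMod.natCast_zmod_val, ZMod.natCast_zmod_val, ZMod.natCast_zmod_val, ZMod.natCast_zmod_val]
    have : (2 : ZMod 3) = -1 := by decide
    rw [this]; ring
  have h012 : ∀ t : ZMod 3, t = 0 ∨ t = 1 ∨ t = 2 := by decide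
  have key : ∀ u v : ZMod 3, c ^ u.val = c ^ v.val → u = v := by
    have hne2 : c ^ 2 ≠ 1 := fun h => hy (by
      calc c = c * c ^ 2 := by rw [h, mul_one]
        _ = c ^ 3 := (pow_succ' c 2).symm
        _ = 1 := hc3)
    have hne : c ^ 2 ≠ c := fun h => hy (mul_right_cancel (b := c) (by rw [← pow_two, h, one_mul]))
    have e0 : c ^ (0 : ZMod 3).val = 1 := pow_zero c
    have e1 : c ^ (1 : ZMod 3).val = c := pow_one c
    have e2 : c ^ (2 : ZMod 3).val = c ^ 2 := rfl
    intro u v huv
    rcases h012 u with rfl | rfl | rfl <;> rcases h012 v with rfl | rfl | rfl <;>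
      simp only [e0, e1, e2] at huv <;>
      first
        | rfl
        | exact absurd huv hy
        | exact absurd huv.symm hy
        | exact absurd huv hne2
        | exact absurd huv.symm hne2
        | exact absurd huv hne
        | exact absurd huv.symm hne
  have hinj : Function.Injective pr := by
    rintro ⟨a, b⟩ ⟨a', b'⟩ h
    have e1 : P.β (pr (a, b)) (pr (1, 0)) = P.β (pr (a', b')) (pr (1, 0)) := by rw [h]
    have e2 : P.β (pr (a, b)) (pr (0, 1)) = P.β (pr (a', b')) (pr (0, 1)) := by rw [h]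
    rw [hβ, hβ] at e1 e2
    have k1 := key _ _ e1
    have k2 := key _ _ e2
    simp at k1 k2
    exact Prod.ext k2 k1
  have hbij : Function.Bijective pr := (Nat.bijective_iff_injective_and_card pr).2
    ⟨hinj, by rw [hN, Nat.card_prod, Nat.card_zmod]⟩
  choose co hco using hbij.2
  let f : H → Q3 := fun g => ((co (g • x)).1, (co (g • y)).1, (co (g • x)).2, (co (g • y)).2)
  have hgen : ∀ (g : H) (a b : ZMod 3),
      g • pr (a, b) = pr ((f g).1 * a + (f g).2.1 * b, (f g).2.2.1 * a + (f g).2.2.2 * b) := by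
    intro g a b
    show g • (x ^ a.val * y ^ b.val) = _
    rw [smul_mul', smul_pow', smul_pow', ← hco (g • x), ← hco (g • y)]
    simp only [pr, f, mul_pow, ← pow_mul]
    rw [mul_mul_mul_comm, ← pow_add, ← pow_add, redN x, redN y]
    congr 3 <;>
    · push_cast
      simp [hco]
  have v0 : (0 : ZMod 3).val = 0 := rfl
  have v1 : (1 : ZMod 3).val = 1 := rfl
  have hx' : pr (1, 0) = x := by
    show x ^ (1 : ZMod 3).val * y ^ (0 : ZMod 3).val = x
    rw [v0, v1, pow_one, pow_zero, mul_one]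
  have hy' : pr (0, 1) = y := by
    show x ^ (0 : ZMod 3).val * y ^ (1 : ZMod 3).val = y
    rw [v0, v1, pow_one, pow_zero, one_mul]
  have hone : f 1 = (1, 0, 0, 1) := by
    have e1 : co x = (1, 0) := hinj (by rw [hco, hx'])
    have e2 : co y = (0, 1) := hinj (by rw [hco, hy'])
    simp [f, e1, e2]
  have hmul : ∀ g h, f (g * h) = qmul (f g) (f h) := by
    intro g h
    have key' : ∀ z, co (g • h • z) = ((f g).1 * (co (h • z)).1 + (f g).2.1 * (co (h • z)).2,
        (f g).2.2.1 * (co (h • z)).1 + (f g).2.2.2 * (co (h • z)).2) := fun z =>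
      hinj (by rw [hco, ← hgen, hco])
    simp only [f, qmul, mul_smul, key']
  have hmem : ∀ g, f g ∈ slList := by
    intro g
    simp only [slList, Finset.mem_filter, Finset.mem_univ, true_and]
    have h1 : P.β (pr ((f g).1, (f g).2.2.1)) (pr ((f g).2.1, (f g).2.2.2)) = c := by
      simp only [f, hco]
      rw [hinv]
    rw [hβ] at h1
    have h2 := key _ 1 (h1.trans (pow_one c).symm)
    rw [← h2]; ring
  intro g hg z
  obtain ⟨⟨a, b⟩, rfl⟩ := hbij.2 z
  rw [hgen, derived_of_map f hone hmul hmem g hg]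
  simp

end H27.Orbit
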